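import Groth.Agent.H16Derived.FMKWit.Eventual
import Groth.Agent.H16Derived.FMKSymm.Main
import Groth.Agent.H16Derived.BaseChange.Finiteness
import Groth.Agent.H16Derived.KFlat.PerfectTensor
import Groth.Agent.H16Derived.KFlat.PerfCohSingle
import Groth.Agent.H16Derived.QRep.Cover
import Groth.Agent.H16Derived.ProperSupp.Tensor
import Groth.Agent.H16Derived.Thomason.Approx
import Groth.Agent.H16Derived.Thomason.IsoTransport
import Groth.Agent.H16Derived.Dual.Main
import Groth.Agent.H10Coh.Proper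
import Groth.Prelude.Def_DualFM

/-!
# Vanishing of `R^iΦ` through high twists
-/

set_option autoImplicit false
set_option linter.style.haveILetI false
set_option backward.isDefEq.respectTransparency false

universe u

open CategoryTheory CategoryTheory.Limits AlgebraicGeometry

attribute [local instance] HasDerivedCategory.standard

namespace Groth.Agent.H16Derived.FMKWit

open Groth.Agent.H16Derived.KFlat Groth.Agent.H16Derived.KFlat.Stalk
open Groth.Agent.H16Derived.GenAmple (tw exact_tw)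

theorem isCohD_of_isPerfect {Y : Scheme.{u}} [IsLocallyNoetherian Y] {K : DCoh.D Y} (hK : DCoh.IsPerfect K) :
    DCoh.IsCohD K := by
  haveI := hasLTensorMod (Coh.structureModule Y)
  obtain ⟨e⟩ := ProperSupp.nonempty_ltensorMod_iso K (Coh.structureModule Y)
  exact Dual.isCohD_iso (e ≪≫ ((Dual.T Y).obj K).mapIso Dual.oneIso ≪≫ (Dual.rightUnit (X := Y)).app K)
    (ProperSupp.isCohD_ltensorMod hK (H10Coh.isCoh_structureModule' Y))

theorem exists_bounds_of_isPerfect {Y : Scheme.{u}} [CompactSpace Y] {K : DCoh.D Y} (hK : DCoh.IsPerfect K) :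
    ∃ a b : ℤ, K.IsGE a ∧ K.IsLE b := by
  obtain ⟨a, b, -, hab⟩ := QRep.exists_hasPerfectAmplitudeIn hK
  have key : ∀ i, i < a ∨ b < i → IsZero (DCoh.HD K i) := fun i hi =>
    H17.FPExt.isZero_of_stalk _ fun x => by
      by_contra hx
      obtain ⟨V, hxV, hV⟩ := hab x
      obtain ⟨E, hE, -, ⟨θ⟩⟩ := hV (DerivedCategory.Q.objPreimage K) ⟨DerivedCategory.Q.objObjPreimageIso K⟩
      let e : (rd V.ι).obj K ≅ DerivedCategory.Q.obj E :=
        (rd V.ι).mapIso (DerivedCategory.Q.objObjPreimageIso K).symm ≪≫ (rdQ V.ι).app _ ≪≫ θ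
      have hz : IsZero (DCoh.HD ((rd V.ι).obj K) i) :=
        (((HomologicalComplex.exactAt_iff_isZero_homology _ _).1
          ((HomologicalComplex.exactAt_iff _ _).2 (ShortComplex.exact_of_isZero_X₂ _ (hE i hi))))).of_iso
          ((DerivedCategory.homologyFunctor _ i).mapIso e ≪≫
            (DerivedCategory.homologyFunctorFactors _ i).app E)
      have hm : (⟨x, hxV⟩ : (V : Scheme.{u})) ∈ CohB1.support (DCoh.HD ((rd V.ι).obj K) i) :=
        (Thomason.mem_support_rd V.ι K i _).2 hx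
      rw [Thomason.support_eq_empty_of_isZero hz] at hm
      exact hm
  exact ⟨a, b, (DerivedCategory.isGE_iff _ _).2 fun i hi => key i (Or.inl hi),
    (DerivedCategory.isLE_iff _ _).2 fun i hi => key i (Or.inr hi)⟩

theorem isFinLocFree_inv {Y : Scheme.{u}} {L : Y.Modules} (hL : PicF.IsInvertible L) : FlatMod.IsFinLocFree L :=
  fun x => let ⟨U, hxU, ⟨e⟩⟩ := hL x
    ⟨U, 1, hxU, ⟨e ≪≫ (coproductUniqueIso fun _ : Fin 1 => Coh.structureModule (↑U : Scheme.{u})).symm⟩⟩

variable {k : Type u} [Field k] {X Y : Scheme.{u}} (a : X ⟶ Spec (CommRingCat.of k))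
  (b : Y ⟶ Spec (CommRingCat.of k))

theorem isPerfect_phi [IsProper a] (P : CochainComplex (pullback a b).Modules ℤ)
    (hP : DCoh.IsPerfect (DCoh.toD (pullback a b) P)) [LocallyOfFiniteType b]
    [DCoh.HasLpull (pullback.fst a b)] [DCoh.HasLTensorCx P] [DCoh.HasRpush (pullback.snd a b)]
    {K : DCoh.D X} (hK : DCoh.IsPerfect K) : DCoh.IsPerfect ((FMK.phi a b P).obj K) := by
  haveI : Flat a := inferInstance
  haveI : LocallyOfFinitePresentation a := inferInstance
  obtain ⟨P', hP', ⟨e⟩⟩ := exists_kflat_rep (DCoh.toD (pullback a b) P)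
  haveI := hasLTensorCx P'
  refine BaseChange.isPerfect_rpush (pullback.snd a b) ?_
  refine isPerfect_of_iso ((Dual.ltensorCxIsoT P').symm.app _ ≪≫ ((Dual.T _).obj _).mapIso e ≪≫
    (Dual.ltensorCxIsoT P).app _) ?_
  exact isPerfect_ltensorCx P' ((isKFlat_iff' P').2 hP') (isPerfect_of_iso e.symm hP)
    (isPerfect_lpull (pullback.fst a b) hK)

/-- For high twists, `R^iΦ(F) = 0` iff the corresponding group vanishes, uniformly in `i`. -/
theorem main [IsProper a] [IsProper b] (P : CochainComplex (pullback a b).Modules ℤ)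
    (hP : DCoh.IsPerfect (DCoh.toD (pullback a b) P))
    [DCoh.HasLpull (pullback.fst a b)] [DCoh.HasLpull (pullback.snd a b)] [DCoh.HasLTensorCx P]
    [DCoh.HasRpush (pullback.fst a b)] [DCoh.HasRpush (pullback.snd a b)] [DCoh.HasRΓ X]
    {L : Y.Modules} (hL : CohB1.IsAmple L) (F : CochainComplex X.Modules ℤ)
    (hF : DCoh.IsPerfect (DCoh.toD X F)) [DCoh.HasLTensorCx F] :
    ∃ n₀ : ℕ, ∀ n : ℕ, n₀ ≤ n → ∀ i : ℤ,
      (IsZero (DCoh.HD ((FMK.phi a b P).obj (DCoh.toD X F)) i) ↔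
        IsZero ((DerivedCategory.homologyFunctor AddCommGrpCat.{u} i).obj ((DCoh.RΓ X).obj
          ((DCoh.LTensorCx F).obj ((DCoh.Lpull (pullback.snd a b) ⋙ DCoh.LTensorCx P ⋙
            DCoh.Rpush (pullback.fst a b)).obj (DCoh.inD Y (CohB1.tensorPow L n))))))) := by
  haveI : IsLocallyNoetherian Y := LocallyOfFiniteType.isLocallyNoetherian b
  haveI : CompactSpace Y := hL.2.1
  haveI : DCoh.HasRΓ Y := GammaAcyclic.hasRΓ Y
  have hC := isPerfect_phi a b P hP hF
  obtain ⟨l, r, hl, hr⟩ := exists_bounds_of_isPerfect hC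
  obtain ⟨n₀, h₀⟩ := eventual b hL ((r - l + 1).toNat) l r (Int.self_le_toNat _) _ hl hr
    (isCohD_of_isPerfect hC)
  refine ⟨n₀, fun n hn i => ?_⟩
  have hinv := H11Ample.isInvertible_tensorPow hL.1 n
  haveI := (exact_tw (L := CohB1.tensorPow L n) hinv).1
  haveI := (exact_tw (L := CohB1.tensorPow L n) hinv).2
  let G := (CochainComplex.singleFunctor Y.Modules 0).obj (CohB1.tensorPow L n)
  haveI := hasLTensorCx G
  haveI := hasLTensorMod (CohB1.tensorPow L n)
  let eG : DCoh.inD Y (CohB1.tensorPow L n) ≅ DCoh.toD Y G :=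
    (DerivedCategory.singleFunctorIsoCompQ Y.Modules 0).app _
  have hG : DCoh.IsPerfect (DCoh.toD Y G) :=
    isPerfect_of_iso eG (isPerfect_inD (isFinLocFree_inv hinv))
  obtain ⟨w⟩ := FMKSymm.main (pullback.fst a b) (pullback.snd a b) P F hF G hG
  obtain ⟨e₁⟩ := ProperSupp.nonempty_ltensorMod_iso ((FMK.phi a b P).obj (DCoh.toD X F)) (CohB1.tensorPow L n)
  obtain ⟨e₂⟩ := GenAmple.nonempty_ltensorMod_tw (CohB1.tensorPow L n) ((FMK.phi a b P).obj (DCoh.toD X F))
  refine (h₀ n hn i).symm.trans ((isZero_rΓ_iff _ i).symm.trans ?_)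
  refine Iso.isZero_iff ((DerivedCategory.homologyFunctor _ i).mapIso ?_)
  exact (DCoh.RΓ Y).mapIso (e₂.symm ≪≫ e₁ ≪≫ ((Dual.T Y).obj _).mapIso eG ≪≫ (Dual.ltensorCxIsoT G).app _) ≪≫
    w.symm ≪≫ (DCoh.RΓ X).mapIso ((DCoh.LTensorCx F).mapIso
      ((DCoh.Lpull (pullback.snd a b) ⋙ DCoh.LTensorCx P ⋙ DCoh.Rpush (pullback.fst a b)).mapIso eG.symm))

end Groth.Agent.H16Derived.FMKWit
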