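import Groth.Agent.H02CA.FibreVanish.Main
import Groth.Agent.H16Derived.Thomason.IsoTransport

/-!
# Cohomology of a derived fibre vanishes where the cohomology sheaves above it do
-/

set_option autoImplicit false
set_option linter.style.haveILetI false

universe u

open CategoryTheory CategoryTheory.Limits AlgebraicGeometry TensorProduct

attribute [local instance] HasDerivedCategory.standard

namespace Groth.Agent.H16Derived.FMKWit

open H16Derived.KFlat H16Derived.KFlat.Stalk H02CA.FibreVanish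

section algebra

variable {A : Type*} [Category A] [Abelian A]

/-- Above a bound from which it is exact, a complex of projectives is split. -/
theorem exists_homotopy_split (C : CochainComplex A ℤ) [∀ j, Projective (C.X j)] (b i : ℤ)
    (hb : ∀ j, b < j → IsZero (C.X j)) (h : ∀ j, i ≤ j → C.ExactAt j) :
    ∃ (g : C.X i ⟶ C.X (i - 1)) (e : C.X (i + 1) ⟶ C.X i),
      g ≫ C.d (i - 1) i + C.d i (i + 1) ≫ e = 𝟙 (C.X i) := by
  suffices key : ∀ (n : ℕ) (j : ℤ), i ≤ j → b < j + n →
      ∃ (g : C.X j ⟶ C.X (j - 1)) (e : C.X (j + 1) ⟶ C.X j),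
        g ≫ C.d (j - 1) j + C.d j (j + 1) ≫ e = 𝟙 (C.X j) from
    key (b + 1 - i).toNat i le_rfl (by omega)
  intro n
  induction n with
  | zero => exact fun j _ hj => ⟨0, 0, (hb j (by omega)).eq_of_src _ _⟩
  | succ n ih =>
    intro j hij hj
    obtain ⟨g', e', h'⟩ := ih (j + 1) (by omega) (by omega)
    let e : C.X (j + 1) ⟶ C.X j := g' ≫ (C.XIsoOfEq (show j + 1 - 1 = j by omega)).hom
    have h1 : C.d j (j + 1) ≫ e ≫ C.d j (j + 1) = C.d j (j + 1) := by
      have h2 := congrArg (C.d j (j + 1) ≫ ·) h'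
      simp only [Preadditive.comp_add, Category.comp_id, HomologicalComplex.d_comp_d_assoc, zero_comp,
        add_zero] at h2
      simpa only [e, Category.assoc, HomologicalComplex.XIsoOfEq_hom_comp_d] using h2
    have hex := (HomologicalComplex.exactAt_iff' C (j - 1) j (j + 1) (by simp) (by simp)).1 (h j hij)
    refine ⟨hex.liftFromProjective (𝟙 _ - C.d j (j + 1) ≫ e) ?_, e, ?_⟩
    · show (𝟙 _ - C.d j (j + 1) ≫ e) ≫ C.d j (j + 1) = 0
      rw [Preadditive.sub_comp, Category.id_comp, Category.assoc, h1, sub_self]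
    · exact (congrArg (· + C.d j (j + 1) ≫ e) (hex.liftFromProjective_comp _ _)).trans (sub_add_cancel _ _)

end algebra

variable {X V Z : Scheme.{u}}

theorem isZero_fibre_homology (f : Z ⟶ V) (p : Z) (S : CochainComplex V.Modules ℤ)
    (hS : DCoh.IsStrictlyPerfect S) (i : ℤ)
    (h : ∀ j, i ≤ j → f.base p ∉ CohB1.support (S.homology j)) :
    IsZero ((DerSch.stalkFunctor Z p).obj
      ((((Scheme.Modules.pullback f).mapHomologicalComplex (ComplexShape.up ℤ)).obj S).homology i)) := by
  letI := H06Mod.stalkAlgebra f p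
  let R := V.presheaf.stalk (f.base p)
  let k := Z.presheaf.stalk p
  let y := f.base p
  let C' := ((DerSch.stalkFunctor V y).mapHomologicalComplex (ComplexShape.up ℤ)).obj S
  haveI : ∀ j, Projective (C'.X j) := fun j => by
    haveI : Module.Free R ((S.X j).presheaf.stalk y) := H8Props.FinLocFree.free_stalk _ (hS.2 j) y
    exact (IsProjective.iff_projective (R := R) ((S.X j).presheaf.stalk y)).1 inferInstance
  have hC' : ∀ j, i ≤ j → C'.ExactAt j := fun j hj => by
    rw [HomologicalComplex.exactAt_iff_isZero_homology]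
    refine IsZero.of_iso ?_ ((S.sc j).mapHomologyIso (DerSch.stalkFunctor V y))
    haveI : Subsingleton ((S.homology j).presheaf.stalk y) := not_not.1 (h j hj)
    exact @ModuleCat.isZero_of_subsingleton _ _ ((DerSch.stalkFunctor V y).obj (S.homology j))
      (inferInstanceAs (Subsingleton ((S.homology j).presheaf.stalk y)))
  obtain ⟨a, b, hab⟩ := hS.1
  obtain ⟨g, e', hge⟩ := exists_homotopy_split C' b i
    (fun j hj => (DerSch.stalkFunctor V y).map_isZero (hab j (Or.inr hj))) hC'
  let d₁ : (S.X (i - 1)).presheaf.stalk y →ₗ[R] (S.X i).presheaf.stalk y := H06Mod.stalkLin (S.d (i - 1) i) y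
  let d₂ : (S.X i).presheaf.stalk y →ₗ[R] (S.X (i + 1)).presheaf.stalk y := H06Mod.stalkLin (S.d i (i + 1)) y
  let gl : (S.X i).presheaf.stalk y →ₗ[R] (S.X (i - 1)).presheaf.stalk y := g.hom
  let el : (S.X (i + 1)).presheaf.stalk y →ₗ[R] (S.X i).presheaf.stalk y := e'.hom
  have hid : d₁ ∘ₗ gl + el ∘ₗ d₂ = LinearMap.id := LinearMap.ext fun t => congr(($hge).hom t)
  have hcomp : d₂ ∘ₗ d₁ = 0 := LinearMap.ext fun t => congr(($(C'.d_comp_d (i - 1) i (i + 1))).hom t)
  have hk : Function.Exact (d₁.baseChange k) (d₂.baseChange k) := by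
    intro x
    constructor
    · intro hx
      refine ⟨gl.baseChange k x, ?_⟩
      have h2 := LinearMap.congr_fun (congrArg (LinearMap.baseChange k) hid) x
      simp only [LinearMap.baseChange_add, LinearMap.baseChange_comp, LinearMap.baseChange_id,
        LinearMap.add_apply, LinearMap.comp_apply, LinearMap.id_apply, hx, map_zero, add_zero] at h2
      exact h2
    · rintro ⟨z, rfl⟩
      rw [← LinearMap.comp_apply, ← LinearMap.baseChange_comp, hcomp, LinearMap.baseChange_zero,
        LinearMap.zero_apply]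
  let P := ((Scheme.Modules.pullback f).mapHomologicalComplex (ComplexShape.up ℤ)).obj S
  let C := ((DerSch.stalkFunctor Z p).mapHomologicalComplex (ComplexShape.up ℤ)).obj P
  have hC : C.ExactAt i := by
    rw [HomologicalComplex.exactAt_iff' _ (i - 1) i (i + 1) (by simp) (by simp),
      ShortComplex.ShortExact.moduleCat_exact_iff_function_exact]
    let e : ∀ j, k ⊗[R] (S.X j).presheaf.stalk y ≃ₗ[k] ((Scheme.Modules.pullback f).obj (S.X j)).presheaf.stalk p :=
      fun j => H06Mod.pullStalkEquiv f (S.X j) p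
    refine (Function.Exact.iff_of_ladder_linearEquiv (R := k) (e₁ := e (i - 1)) (e₂ := e i) (e₃ := e (i + 1))
      (f₁₂ := d₁.baseChange k) (f₂₃ := d₂.baseChange k)
      (g₁₂ := H06Mod.stalkLin ((Scheme.Modules.pullback f).map (S.d (i - 1) i)) p)
      (g₂₃ := H06Mod.stalkLin ((Scheme.Modules.pullback f).map (S.d i (i + 1))) p) ?_ ?_).2 hk
    · exact LinearMap.ext fun t => (pullStalkLin_naturality f p (S.d (i - 1) i) t).symm
    · exact LinearMap.ext fun t => (pullStalkLin_naturality f p (S.d i (i + 1)) t).symm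
  rw [HomologicalComplex.exactAt_iff_isZero_homology] at hC
  exact hC.of_iso ((P.sc i).mapHomologyIso (DerSch.stalkFunctor Z p)).symm

/-- If the cohomology sheaves in degrees `≥ i` vanish at `x`, so does the fibre cohomology in degree `i`. -/
theorem isZero_lpull_of_support (K : DCoh.D X) (hK : DCoh.IsPerfect K) (x : X)
    [DCoh.HasLpull (X.fromSpecResidueField x)] (i : ℤ)
    (h : ∀ j, i ≤ j → x ∉ CohB1.support (DCoh.HD K j)) :
    IsZero (DCoh.HD ((DCoh.Lpull (X.fromSpecResidueField x)).obj K) i) := by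
  obtain ⟨W, hxW, S, hS, ⟨α⟩⟩ := (isPerfect_iff K).1 hK x
  obtain ⟨f, hf, hfp⟩ := exists_lift_residueField W ⟨x, hxW⟩
  obtain ⟨P, hP, ⟨e⟩⟩ := exists_kflat_rep K
  haveI := hasLpull f
  let g := X.fromSpecResidueField x
  let β : DCoh.toD _ S ≅ DCoh.toD _ ((DCoh.restrictCx W).obj P) :=
    α ≪≫ (rd W.ι).mapIso e.symm ≪≫ (rdQ W.ι).app P
  let θ : DCoh.HD ((DCoh.Lpull g).obj K) i ≅
      (((Scheme.Modules.pullback f).mapHomologicalComplex (ComplexShape.up ℤ)).obj S).homology i :=
    (DerivedCategory.homologyFunctor _ i).mapIso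
        ((DCoh.Lpull g).mapIso e.symm ≪≫ lpullObjIso g P hP ≪≫
          DerivedCategory.Q.mapIso (pullbackFactorIso W f g hf P) ≪≫
          (lpullObjIso f _ (kflat_restrict W hP)).symm ≪≫ (DCoh.Lpull f).mapIso β.symm ≪≫
          lpullObjIso f S (kflat_of_isStrictlyPerfect hS)) ≪≫
      (DerivedCategory.homologyFunctorFactors _ i).app _
  refine IsZero.of_iso ?_ θ
  refine KFlat.Stalk.isZero_of_stalk fun p => ?_
  have hz := isZero_fibre_homology f p S hS i fun j hj => by
    rw [hfp p]
    intro hm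
    exact h j hj ((Thomason.mem_support_rd W.ι K j _).1 ((MVPush.support_iso
      (((DerivedCategory.homologyFunctorFactors _ j).app S).symm ≪≫
        (DerivedCategory.homologyFunctor _ j).mapIso α)).le hm))
  exact hz

/-- On a one-point scheme vanishing of `H^i(L)` gives vanishing of `H^i RΓ(L)`. -/
theorem isZero_RΓ_of_HD {Z : Scheme.{u}} [Subsingleton Z] [DCoh.HasRΓ Z] (L : DCoh.D Z) (i : ℤ)
    (h : IsZero (DCoh.HD L i)) :
    IsZero ((DerivedCategory.homologyFunctor AddCommGrpCat.{u} i).obj ((DCoh.RΓ Z).obj L)) := by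
  haveI := isGrothendieckAbelian_modules (X := Z)
  obtain ⟨I, hI, ⟨e⟩⟩ := KInjRes.exists_kInjective_iso (A := Z.Modules) L
  haveI := hI
  haveI := preservesHomology_gammaAb (Z := Z)
  haveI := GammaAcyclic.isIso_gammaUnit Z I
  let G := (DCoh.gammaAb Z).mapHomologicalComplex (ComplexShape.up ℤ)
  let e₁ : (DCoh.RΓ Z).obj L ≅ DerivedCategory.Q.obj (G.obj I) :=
    (DCoh.RΓ Z).mapIso (e ≪≫ ((DerivedCategory.quotientCompQhIso Z.Modules).app I).symm) ≪≫
      (asIso ((GammaAcyclic.gammaUnit Z).app ((HomotopyCategory.quotient _ _).obj I))).symm ≪≫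
      DerivedCategory.Qh.mapIso (((DCoh.gammaAb Z).mapHomotopyCategoryFactors (ComplexShape.up ℤ)).app I) ≪≫
      (DerivedCategory.quotientCompQhIso AddCommGrpCat.{u}).app _
  have hI0 : IsZero (I.homology i) :=
    h.of_iso ((DerivedCategory.homologyFunctor _ i).mapIso e ≪≫
      (DerivedCategory.homologyFunctorFactors Z.Modules i).app I).symm
  exact ((DCoh.gammaAb Z).map_isZero hI0).of_iso
    ((DerivedCategory.homologyFunctor _ i).mapIso e₁ ≪≫
      (DerivedCategory.homologyFunctorFactors AddCommGrpCat.{u} i).app (G.obj I) ≪≫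
      (I.sc i).mapHomologyIso (DCoh.gammaAb Z))

end Groth.Agent.H16Derived.FMKWit
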