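import Groth.Agent.H16Derived.GenAmpleDetect

/-!
# Cohomology of `RΓ` and morphisms out of the structure sheaf
-/

set_option autoImplicit false
set_option linter.style.haveILetI false
set_option backward.isDefEq.respectTransparency false

universe u

open CategoryTheory CategoryTheory.Limits AlgebraicGeometry Opposite

attribute [local instance] HasDerivedCategory.standard

namespace Groth.Agent.H16Derived.FMKWit

open Groth.Agent.H11Tilde Groth.Agent.H11Ample Groth.Agent.H10Coh
open Groth.Agent.H16Derived.QCohD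

variable {X : Scheme.{u}} [DCoh.HasRΓ X]

/-- If there are no morphisms `O[-i] ⟶ E` then `H^i(RΓ E) = 0`. -/
theorem isZero_rΓ_of_hom {E : DCoh.D X} (i : ℤ)
    (h : ∀ φ : (DerivedCategory.singleFunctor X.Modules i).obj (freeSh (⊤ : X.Opens)) ⟶ E, φ = 0) :
    IsZero ((DerivedCategory.homologyFunctor AddCommGrpCat.{u} i).obj ((DCoh.RΓ X).obj E)) := by
  obtain ⟨I, hI, -, ⟨e⟩⟩ := MVPush.exists_rep E
  let G := ((DCoh.gammaAb X).mapHomologicalComplex (ComplexShape.up ℤ)).obj I
  suffices hG : G.ExactAt i from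
    hG.isZero_homology.of_iso ((DerivedCategory.homologyFunctor _ i).mapIso (MVPush.rΓObjIso X I e) ≪≫
      (DerivedCategory.homologyFunctorFactors _ i).app G)
  rw [HomologicalComplex.exactAt_iff' G (i - 1) i (i + 1) (by simp) (by simp), ShortComplex.ab_exact_iff]
  intro (x : Γ(I.X i, ⊤)) hx
  change (I.d i (i + 1)).app ⊤ x = 0 at hx
  let f : freeSh (⊤ : X.Opens) ⟶ I.X i := (freeShEquiv ⊤ _).symm x
  have hf : f ≫ I.d i (i + 1) = 0 := (freeShEquiv ⊤ _).injective (by
    have h0 : freeShEquiv ⊤ _ (0 : freeSh (⊤ : X.Opens) ⟶ I.X (i + 1)) = 0 := by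
      rw [← Limits.zero_comp (f := (0 : I.X (i + 1) ⟶ I.X (i + 1))) (X := freeSh (⊤ : X.Opens)), freeShEquiv_comp]
      rfl
    rw [h0, freeShEquiv_comp, Equiv.apply_symm_apply]
    exact hx)
  let S := (CochainComplex.singleFunctor X.Modules i).obj (freeSh (⊤ : X.Opens))
  let ψ : S ⟶ I := HomologicalComplex.mkHomFromSingle f (fun k hk => by
    obtain rfl : i + 1 = k := hk
    exact hf)
  let q := DerivedCategory.quotientCompQhIso X.Modules
  let eS := (DerivedCategory.singleFunctorIsoCompQ X.Modules i).app (freeSh (⊤ : X.Opens))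
  have h0 : DerivedCategory.Q.map ψ = 0 := by
    have := h (eS.hom ≫ DerivedCategory.Q.map ψ ≫ e.hom)
    have h1 := congrArg (fun z => eS.inv ≫ z ≫ e.inv) this
    simpa using h1
  have h2 : DerivedCategory.Qh.map ((HomotopyCategory.quotient _ _).map ψ) =
      DerivedCategory.Qh.map ((HomotopyCategory.quotient _ _).map (0 : S ⟶ I)) := by
    rw [Functor.map_zero, Functor.map_zero, ← cancel_mono (q.hom.app I)]
    refine (q.hom.naturality ψ).trans ?_
    rw [h0, comp_zero, zero_comp]
  have H := HomotopyCategory.homotopyOfEq ψ 0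
    ((CochainComplex.IsKInjective.Qh_map_bijective ((HomotopyCategory.quotient _ _).obj S) I).1 h2)
  have hc := H.comm i
  rw [dNext_eq H.hom (show (ComplexShape.up ℤ).Rel i (i + 1) from rfl),
    prevD_eq H.hom (show (ComplexShape.up ℤ).Rel (i - 1) i from by simp)] at hc
  let f' : freeSh (⊤ : X.Opens) ⟶ I.X (i - 1) :=
    (HomologicalComplex.singleObjXSelf (ComplexShape.up ℤ) i _).inv ≫ H.hom i (i - 1)
  have hff : f = f' ≫ I.d (i - 1) i := by
    have hψ : ψ.f i = (HomologicalComplex.singleObjXSelf (ComplexShape.up ℤ) i _).hom ≫ f :=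
      HomologicalComplex.mkHomFromSingle_f _ _
    have hc' := congrArg ((HomologicalComplex.singleObjXSelf (ComplexShape.up ℤ) i _).inv ≫ ·) hc
    simp only [hψ, Iso.inv_hom_id_assoc, HomologicalComplex.zero_f, add_zero] at hc'
    rw [hc', (HomologicalComplex.isZero_single_obj_X (ComplexShape.up ℤ) i _ _ (by omega : i + 1 ≠ i)).eq_of_tgt
      (S.d i (i + 1)) 0, zero_comp, zero_add]
    exact (Category.assoc _ _ _).symm
  refine ⟨freeShEquiv ⊤ _ f', ?_⟩
  show (I.d (i - 1) i).app ⊤ _ = x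
  refine (freeShEquiv_comp ⊤ f' _).symm.trans ?_
  rw [← hff]
  exact (freeShEquiv ⊤ _).apply_symm_apply x

theorem isZero_rΓ_iff (E : DCoh.D X) (i : ℤ) :
    IsZero ((DerivedCategory.homologyFunctor AddCommGrpCat.{u} i).obj ((DCoh.RΓ X).obj E)) ↔
      Subsingleton (DCoh.inD X (Coh.structureModule X) ⟶ E⟦i⟧) := by
  let σ : (DCoh.inD X (Coh.structureModule X))⟦-i⟧ ≅
      (DerivedCategory.singleFunctor X.Modules i).obj (freeSh (⊤ : X.Opens)) :=
    (shiftFunctor _ (-i)).mapIso ((DerivedCategory.singleFunctor X.Modules 0).mapIso freeShTopIso.symm) ≪≫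
      ((DerivedCategory.singleFunctors X.Modules).shiftIso (-i) i 0 (by omega)).app _
  let τ : (E⟦i⟧)⟦-i⟧ ≅ E := (shiftFunctorCompIsoId (DCoh.D X) i (-i) (add_neg_cancel i)).app E
  constructor
  · refine fun h => subsingleton_of_forall_eq 0 fun g => ?_
    have h1 := GenAmple.hom_eq_zero_of_rΓ i h (σ.inv ≫ (shiftFunctor _ (-i)).map g ≫ τ.hom)
    have h2 := congrArg (fun z => σ.hom ≫ z ≫ τ.inv) h1
    simp only [Category.assoc, Iso.hom_inv_id_assoc, Iso.hom_inv_id, Category.comp_id, comp_zero, zero_comp] at h2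
    exact (shiftFunctor (DCoh.D X) (-i)).map_injective (h2.trans (Functor.map_zero _ _ _).symm)
  · refine fun h => isZero_rΓ_of_hom i fun φ => ?_
    obtain ⟨g, hg⟩ := (shiftFunctor (DCoh.D X) (-i)).map_surjective (σ.hom ≫ φ ≫ τ.inv)
    rw [h.elim g 0, Functor.map_zero] at hg
    have h2 := congrArg (fun z => σ.inv ≫ z ≫ τ.hom) hg.symm
    simpa using h2

end Groth.Agent.H16Derived.FMKWit
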