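import Groth.Agent.H16Derived.FMKWit.Eventual
import Groth.Agent.H16Derived.FMKWit.Main
import Groth.Agent.H10Coh.Pn.Hyper

/-!
# Vanishing from codimension of supports
-/

set_option autoImplicit false
set_option linter.style.haveILetI false
set_option backward.isDefEq.respectTransparency false

universe u

open CategoryTheory CategoryTheory.Limits CategoryTheory.Pretriangulated AlgebraicGeometry Opposite TopologicalSpace

attribute [local instance] HasDerivedCategory.standard

namespace Groth.Agent.H16Derived.FMKWit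

open DerivedCategory.TStructure (t)
open Groth.Agent.H16Derived.GenAmple (tw)
open Groth.Agent.H16Derived.KFlat Groth.Agent.H16Derived.KFlat.Stalk

variable {Y : Scheme.{u}}

theorem height_add_le (g : ℕ) (hg : topologicalKrullDim ↥Y ≤ (g : WithBot ℕ∞)) (W : IrreducibleCloseds Y) :
    (Order.height W : WithBot ℕ∞) + ringKrullDim (Y.presheaf.stalk (irreducibleSetEquivPoints W)) ≤ g := by
  rw [AlgebraicGeometry.ringKrullDim_stalk_eq_coheight, Order.coheight_orderIso irreducibleSetEquivPoints W,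
    ← WithBot.coe_add]
  haveI : Nonempty (IrreducibleCloseds Y) := ⟨W⟩
  refine le_trans ?_ hg
  rw [topologicalKrullDim, Order.krullDim_eq_iSup_height_add_coheight_of_nonempty, WithBot.coe_le_coe]
  exact le_iSup (fun a : IrreducibleCloseds Y => Order.height a + Order.coheight a) W

theorem stalk_dim_le (g : ℕ) (hg : topologicalKrullDim ↥Y ≤ (g : WithBot ℕ∞)) (y : Y) :
    ringKrullDim (Y.presheaf.stalk y) ≤ g := by
  have h := height_add_le g hg (irreducibleSetEquivPoints.symm y)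
  rw [OrderIso.apply_symm_apply] at h
  exact le_trans (le_add_of_nonneg_left (WithBot.coe_nonneg.2 bot_le)) h

theorem subsingleton_HH_of_codim [NoetherianSpace Y] (g : ℕ) (hg : topologicalKrullDim ↥Y ≤ (g : WithBot ℕ∞))
    (M : Y.Modules) (c : ℕ) (hM : ∀ y ∈ CohB1.support M, (c : WithBot ℕ∞) ≤ ringKrullDim (Y.presheaf.stalk y))
    (p : ℕ) (hp : g < p + c) : Subsingleton (Coh.HH Y M p) := by
  refine H10Coh.Hyper.subsingleton_of_suppLT (fun W hW U hU s => ?_) le_rfl
  let η : Y := irreducibleSetEquivPoints W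
  have hηW : η ∈ (W : Set Y) := by
    have h := W.isIrreducible'.isGenericPoint_genericPoint_closure.mem
    rw [W.isClosed'.closure_eq] at h
    exact h
  have hηU : η ∈ U := by
    obtain ⟨y, hyW, hyU⟩ := hU
    have hs : η ⤳ y := by
      have hc := W.isIrreducible'.isGenericPoint_genericPoint_closure
      rw [W.isClosed'.closure_eq] at hc
      exact hc.specializes hyW
    exact hs.mem_open U.2 hyU
  have hns : η ∉ CohB1.support M := fun hη => by
    have h1 := height_add_le g hg W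
    have h2 : ((p : ℕ∞) : WithBot ℕ∞) + ((c : ℕ∞) : WithBot ℕ∞) ≤ (g : WithBot ℕ∞) :=
      le_trans (add_le_add (WithBot.coe_le_coe.2 hW) (hM η hη)) h1
    norm_cast at h2
    omega
  haveI : Subsingleton (M.presheaf.stalk η) := not_not.1 hns
  obtain ⟨V, hηV, i₁, i₂, h⟩ := M.presheaf.germ_eq η hηU hηU s 0 (Subsingleton.elim _ _)
  refine ⟨V, leOfHom i₁, ⟨η, hηW, hηV⟩, ?_⟩
  exact h.trans (map_zero _)

theorem support_tensor_subset (M N : Y.Modules) :
    CohB1.support (((DCoh.tensorBi (X := Y)).obj M).obj N) ⊆ CohB1.support M := fun y hy hM => hy <| by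
  haveI : Subsingleton (M.presheaf.stalk y) := hM
  exact (KFlat.Stalk.stalkEquiv M N y).toEquiv.symm.subsingleton

theorem exact_tw_locFree {N : Y.Modules} (hN : FlatMod.IsFinLocFree N) :
    PreservesFiniteLimits (tw N) ∧ PreservesFiniteColimits (tw N) :=
  ((Functor.exact_tfae (tw N)).out 0 3).1 fun S hS => isFlatObj_of_isFlat (isFlat_of_isFinLocFree hN) S hS

theorem ss_bounded [NoetherianSpace Y] (g k' : ℕ) (hg : topologicalKrullDim ↥Y ≤ (g : WithBot ℕ∞))
    {N : Y.Modules} [PreservesFiniteLimits (tw N)] [PreservesFiniteColimits (tw N)] :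
    ∀ (m : ℕ) (b : ℤ), b + 1 ≤ m → ∀ (C : DCoh.D Y), C.IsGE 0 → C.IsLE b →
      (∀ (q : ℕ) (y : Y), y ∈ CohB1.support (DCoh.HD C (q : ℤ)) →
        ((q - k' : ℕ) : WithBot ℕ∞) ≤ ringKrullDim (Y.presheaf.stalk y)) →
      ∀ i : ℤ, (i < 0 ∨ (g : ℤ) + k' < i) →
        Subsingleton (DCoh.inD Y (Coh.structureModule Y) ⟶ ((tw N).mapDerivedCategory.obj C)⟦i⟧) := by
  intro m
  induction m with
  | zero =>
    intro b hm C _ _ _ i _
    have hz : IsZero C := t.isZero C b 0 (by omega)
    have hz' := (shiftFunctor (DCoh.D Y) i).map_isZero ((tw N).mapDerivedCategory.map_isZero hz)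
    exact ⟨fun f g => hz'.eq_of_tgt f g⟩
  | succ m ih =>
    intro b hm C _ _ hC i hi
    rcases lt_or_ge b 0 with hb | hb
    · exact ih b (by omega) C inferInstance inferInstance hC i hi
    haveI : DerivedCategory.IsGE ((t.truncGE b).obj C) b := inferInstanceAs (t.IsGE _ b)
    haveI : DerivedCategory.IsLE ((t.truncGE b).obj C) b := DTrunc.isLE_truncGE C b b
    obtain ⟨M, ⟨e⟩⟩ := ((t.truncGE b).obj C).exists_iso_singleFunctor_obj_of_isGE_of_isLE b
    haveI := DTrunc.isIso_homology_truncGEπ C b b le_rfl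
    let eM : DCoh.HD C b ≅ M :=
      asIso ((DerivedCategory.homologyFunctor _ b).map ((t.truncGEπ b).app C)) ≪≫
        (DerivedCategory.homologyFunctor _ b).mapIso e ≪≫ KFlat.Stalk.hdSingle M b
    haveI : DerivedCategory.IsLE ((t.truncLT b).obj C) (b - 1) :=
      inferInstanceAs (t.IsLE ((t.truncLT b).obj C) (b - 1))
    let F := tw N
    have hdist := F.mapDerivedCategory.map_distinguished _ (t.triangleLTGE_distinguished b C)
    refine ss₂' _ _ hdist i ?_ ?_
    · refine ih (b - 1) (by omega) _ (DTrunc.isGE_truncLT C b 0) inferInstance (fun q y hy => ?_) i hi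
      rcases lt_or_ge (q : ℤ) b with hq | hq
      · haveI := DTrunc.isIso_homology_truncLTι C b q hq
        refine hC q y ?_
        exact (MVPush.support_iso
          (asIso ((DerivedCategory.homologyFunctor _ (q : ℤ)).map ((t.truncLTι b).app C)))).le hy
      · rw [Thomason.support_eq_empty_of_isZero
          (DerivedCategory.isZero_of_isLE ((t.truncLT b).obj C) (b - 1) q (by omega))] at hy
        exact hy.elim
    · refine ss_of_iso _ ((shiftFunctor _ i).mapIso
        (F.mapDerivedCategory.mapIso e ≪≫ (F.mapDerivedCategorySingleFunctor b).app M).symm) ?_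
      refine subsingleton_hom_single _ b i fun p hp => ?_
      obtain ⟨q, hq⟩ := Int.eq_ofNat_of_zero_le hb
      refine subsingleton_HH_of_codim g hg _ (q - k') (fun y hy => hC q y ?_) p (by omega)
      rw [show ((q : ℕ) : ℤ) = b from hq.symm, MVPush.support_iso eM]
      exact support_tensor_subset M N hy

theorem isLE_of_codim (g k' : ℕ) (hg : topologicalKrullDim ↥Y ≤ (g : WithBot ℕ∞)) (C : DCoh.D Y)
    (hC : ∀ (q : ℕ) (y : Y), y ∈ CohB1.support (DCoh.HD C (q : ℤ)) →
      ((q - k' : ℕ) : WithBot ℕ∞) ≤ ringKrullDim (Y.presheaf.stalk y)) : C.IsLE ((g : ℤ) + k') :=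
  (Thomason.isLE_iff_support C _).2 fun i hi => by
    refine Set.eq_empty_iff_forall_notMem.2 fun y hy => ?_
    obtain ⟨q, rfl⟩ := Int.eq_ofNat_of_zero_le (show 0 ≤ i by omega)
    have h := (hC q y hy).trans (stalk_dim_le g hg y)
    norm_cast at h
    omega

variable {k : Type u} [Field k] {X : Scheme.{u}} (a : X ⟶ Spec (CommRingCat.of k))
  (b : Y ⟶ Spec (CommRingCat.of k))

theorem gv_vanish [LocallyOfFiniteType b] [QuasiCompact b] (g : ℕ) (hg : topologicalKrullDim ↥Y ≤ (g : WithBot ℕ∞))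
    (P : CochainComplex (pullback a b).Modules ℤ)
    [DCoh.HasLpull (pullback.fst a b)] [DCoh.HasLpull (pullback.snd a b)] [DCoh.HasLTensorCx P]
    [DCoh.HasRpush (pullback.fst a b)] [DCoh.HasRpush (pullback.snd a b)] [DCoh.HasRΓ X]
    (k' : ℕ) (F : CochainComplex X.Modules ℤ) (hF : DCoh.IsPerfect (DCoh.toD X F)) [DCoh.HasLTensorCx F]
    (hneg : ∀ i : ℤ, i < 0 → IsZero (DCoh.HD ((FMK.phi a b P).obj (DCoh.toD X F)) i))
    (hcodim : ∀ (i : ℕ) (y : ↥Y), y ∈ CohB1.support (DCoh.HD ((FMK.phi a b P).obj (DCoh.toD X F)) (i : ℤ)) →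
      ((i - k' : ℕ) : WithBot ℕ∞) ≤ ringKrullDim ↑(Y.presheaf.stalk y))
    (N : Y.Modules) (hN : FlatMod.IsFinLocFree N) (i : ℤ) (hi : i < 0 ∨ (g : ℤ) + k' < i) :
    IsZero ((DerivedCategory.homologyFunctor AddCommGrpCat.{u} i).obj ((DCoh.RΓ X).obj
      ((DCoh.LTensorCx F).obj ((DCoh.Lpull (pullback.snd a b) ⋙ DCoh.LTensorCx P ⋙
        DCoh.Rpush (pullback.fst a b)).obj (DCoh.inD Y N))))) := by
  haveI : IsLocallyNoetherian Y := LocallyOfFiniteType.isLocallyNoetherian b
  haveI : CompactSpace Y := QuasiCompact.compactSpace_of_compactSpace b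
  haveI : IsNoetherian Y := ⟨⟩
  haveI : DCoh.HasRΓ Y := GammaAcyclic.hasRΓ Y
  haveI := (exact_tw_locFree hN).1
  haveI := (exact_tw_locFree hN).2
  let G := (CochainComplex.singleFunctor Y.Modules 0).obj N
  haveI := hasLTensorCx G
  haveI := hasLTensorMod N
  let eG : DCoh.inD Y N ≅ DCoh.toD Y G := (DerivedCategory.singleFunctorIsoCompQ Y.Modules 0).app _
  have hG : DCoh.IsPerfect (DCoh.toD Y G) := isPerfect_of_iso eG (isPerfect_inD hN)
  obtain ⟨w⟩ := FMKSymm.main (pullback.fst a b) (pullback.snd a b) P F hF G hG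
  obtain ⟨e₁⟩ := ProperSupp.nonempty_ltensorMod_iso ((FMK.phi a b P).obj (DCoh.toD X F)) N
  obtain ⟨e₂⟩ := GenAmple.nonempty_ltensorMod_tw N ((FMK.phi a b P).obj (DCoh.toD X F))
  refine ((isZero_rΓ_iff _ i).2 (ss_bounded (N := N) g k' hg ((g + k' + 1 : ℕ)) ((g : ℤ) + k') (by push_cast; omega) _
    ((DerivedCategory.isGE_iff _ _).2 hneg) (isLE_of_codim g k' hg _ hcodim) hcodim i hi)).of_iso
    ((DerivedCategory.homologyFunctor _ i).mapIso ?_)
  exact ((DCoh.RΓ Y).mapIso (e₂.symm ≪≫ e₁ ≪≫ ((Dual.T Y).obj _).mapIso eG ≪≫ (Dual.ltensorCxIsoT G).app _) ≪≫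
    w.symm ≪≫ (DCoh.RΓ X).mapIso ((DCoh.LTensorCx F).mapIso
      ((DCoh.Lpull (pullback.snd a b) ⋙ DCoh.LTensorCx P ⋙ DCoh.Rpush (pullback.fst a b)).mapIso eG.symm))).symm

end Groth.Agent.H16Derived.FMKWit
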