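import Groth.Agent.H16Derived.FMKWit.Hom
import Groth.Agent.H4RepDual.UnitHom
import Groth.Agent.H10Coh.SerreVanishing2
import Groth.Agent.H10Coh.Pn.Results
import Groth.Agent.H11Ample.Global
import Groth.Agent.H11Ample.UnitIso
import Groth.Agent.H11Sym.InvertibleInverse

/-!
# High twists detect cohomology sheaves
-/

set_option autoImplicit false
set_option linter.style.haveILetI false
set_option backward.isDefEq.respectTransparency false

universe v u

open CategoryTheory CategoryTheory.Limits CategoryTheory.Pretriangulated AlgebraicGeometry Opposite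

namespace Groth.Agent.H16Derived.FMKWit

section Gen

variable {C : Type u} [Category.{v} C] [Preadditive C] [HasZeroObject C] [HasShift C ℤ]
  [∀ n : ℤ, (shiftFunctor C n).Additive] [Pretriangulated C]

theorem ss_of_iso (W : C) {V V' : C} (e : V ≅ V') (h : Subsingleton (W ⟶ V)) : Subsingleton (W ⟶ V') :=
  ⟨fun f g => (cancel_mono e.inv).1 (h.elim _ _)⟩

theorem ss₂ (W : C) (T : Triangle C) (hT : T ∈ distTriang C) (h₁ : Subsingleton (W ⟶ T.obj₁))
    (h₃ : Subsingleton (W ⟶ T.obj₃)) : Subsingleton (W ⟶ T.obj₂) := by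
  refine subsingleton_of_forall_eq 0 fun g => ?_
  obtain ⟨g', hg'⟩ := Triangle.coyoneda_exact₂ T hT g (h₃.elim _ _)
  rw [hg', h₁.elim g' 0, zero_comp]

theorem ss₂' (W : C) (T : Triangle C) (hT : T ∈ distTriang C) (i : ℤ) (h₁ : Subsingleton (W ⟶ T.obj₁⟦i⟧))
    (h₃ : Subsingleton (W ⟶ T.obj₃⟦i⟧)) : Subsingleton (W ⟶ T.obj₂⟦i⟧) :=
  ss₂ W _ (Triangle.shift_distinguished T hT i) h₁ h₃

theorem ss₁' (W : C) (T : Triangle C) (hT : T ∈ distTriang C) (i : ℤ) (h₂ : Subsingleton (W ⟶ T.obj₂⟦i⟧))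
    (h₃ : Subsingleton (W ⟶ T.obj₃⟦i - 1⟧)) : Subsingleton (W ⟶ T.obj₁⟦i⟧) :=
  ss₂' W _ (inv_rot_of_distTriang _ hT) i
    (ss_of_iso W ((shiftFunctorAdd' C (-1) i (i - 1) (by omega)).app T.obj₃) h₃) h₂

theorem ss₃' (W : C) (T : Triangle C) (hT : T ∈ distTriang C) (i : ℤ) (h₂ : Subsingleton (W ⟶ T.obj₂⟦i⟧))
    (h₁ : Subsingleton (W ⟶ T.obj₁⟦i + 1⟧)) : Subsingleton (W ⟶ T.obj₃⟦i⟧) :=
  ss₂' W _ (rot_of_distTriang _ hT) i h₂
    (ss_of_iso W ((shiftFunctorAdd' C 1 i (i + 1) (by omega)).app T.obj₁) h₁)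

end Gen

attribute [local instance] HasDerivedCategory.standard
attribute [local instance 10000] H10Coh.hasSheafifyAb H10Coh.hasWeakSheafifyAb H10Coh.hasExtAb H10Coh.enoughInjAb

open DerivedCategory.TStructure (t)
open Groth.Agent.H16Derived.GenAmple (tw exact_tw)

variable {k : Type u} [Field k] {Y : Scheme.{u}} (q : Y ⟶ Spec (CommRingCat.of k)) [IsProper q]

theorem subsingleton_hh0_iff (M : Y.Modules) : Subsingleton (Coh.HH Y M 0) ↔ Subsingleton Γ(M, ⊤) :=
  (H10Coh.HH0Equiv M).toEquiv.subsingleton_congr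

theorem subsingleton_hom_single (M : Y.Modules) (b i : ℤ)
    (h : ∀ p : ℕ, (p : ℤ) = i - b → Subsingleton (Coh.HH Y M p)) :
    Subsingleton (DCoh.inD Y (Coh.structureModule Y) ⟶
      ((DerivedCategory.singleFunctor Y.Modules b).obj M)⟦i⟧) := by
  rcases lt_or_ge i b with hi | hi
  · haveI : t.IsGE (((DerivedCategory.singleFunctor Y.Modules b).obj M)⟦i⟧) (b - i) :=
      t.isGE_shift _ b i (b - i) (by omega)
    haveI : t.IsLE (DCoh.inD Y (Coh.structureModule Y)) 0 :=
      inferInstanceAs (((DerivedCategory.singleFunctor Y.Modules 0).obj (Coh.structureModule Y)).IsLE 0)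
    exact ⟨fun f g => (t.zero f 0 (b - i) (by omega)).trans (t.zero g 0 (b - i) (by omega)).symm⟩
  · obtain ⟨p, hp⟩ := Int.eq_ofNat_of_zero_le (show 0 ≤ i - b by omega)
    haveI := H4RepDual.hasExtModules Y
    haveI := h p hp.symm
    refine ss_of_iso _ ?_ (⟨fun f g => (H4RepDual.bijective_toHH M p).1 (Subsingleton.elim _ _)⟩ :
      Subsingleton (DCoh.inD Y (Coh.structureModule Y) ⟶ (DCoh.inD Y M)⟦(p : ℤ)⟧))
    exact (shiftFunctor (DCoh.D Y) (p : ℤ)).mapIso
      (((DerivedCategory.singleFunctors Y.Modules).shiftIso b 0 b (add_zero b)).app M).symm ≪≫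
      ((shiftFunctorAdd' (DCoh.D Y) b (p : ℤ) i (by omega)).app _).symm

theorem subsingleton_hh0_of_hom (M : Y.Modules) (b : ℤ)
    (h : Subsingleton (DCoh.inD Y (Coh.structureModule Y) ⟶
      ((DerivedCategory.singleFunctor Y.Modules b).obj M)⟦b⟧)) : Subsingleton (Coh.HH Y M 0) := by
  haveI := H4RepDual.hasExtModules Y
  have h' := ss_of_iso _ ((((DerivedCategory.singleFunctors Y.Modules).shiftIso b 0 b (add_zero b)).app M) ≪≫
    ((shiftFunctorZero (DCoh.D Y) ℤ).app _).symm) h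
  haveI : Subsingleton (DCoh.inD Y (Coh.structureModule Y) ⟶ (DCoh.inD Y M)⟦((0 : ℕ) : ℤ)⟧) := h'
  exact (H4RepDual.bijective_toHH M 0).2.subsingleton

theorem isZero_of_gg {M : Y.Modules} (hg : Curv2.IsGloballyGenerated M) (h : Subsingleton Γ(M, ⊤)) :
    IsZero M := by
  obtain ⟨ι, p, hp⟩ := hg
  have hp0 : p = 0 := (SheafOfModules.freeHomEquiv M).injective (funext fun i => by
    haveI : Subsingleton ((Coh.structureModule Y : Y.Modules) ⟶ M) :=
      (QCohD.freeShTopIso (X := Y)).homFromEquiv.subsingleton_congr.1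
        ((H10Coh.freeShEquiv ⊤ M).subsingleton_congr.2 h)
    exact (SheafOfModules.unitHomEquiv M).surjective.subsingleton.elim _ _)
  haveI := hp
  exact (IsZero.iff_id_eq_zero _).2 ((cancel_epi p).1 (by rw [hp0, zero_comp, zero_comp]))

theorem isZero_tensor_right {M : Y.Modules} (h : IsZero M) (L : Y.Modules) :
    IsZero (CohB1.tensorMod M L) :=
  ((DCoh.tensorBi (X := Y)).flip.obj L).map_isZero h

theorem isZero_of_tensor {L M : Y.Modules} (hL : PicF.IsInvertible L)
    (h : IsZero (CohB1.tensorMod M L)) : IsZero M := by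
  obtain ⟨L', hL', ⟨e⟩⟩ := H11Sym.exists_inverse hL
  let e' := H11Ample.tensorCommIso L L'
  have h1 : IsZero (CohB1.tensorMod (CohB1.tensorMod M L) L') := by
    exact isZero_tensor_right h L'
  let e₁ : CohB1.tensorMod (CohB1.tensorMod M L) L' ≅ CohB1.tensorMod M (CohB1.tensorMod L L') :=
    H10Coh.Tw.assoc M L L'
  let e₂ : CohB1.tensorMod L L' ≅ Coh.structureModule Y := e' ≪≫ e
  let e₃ : CohB1.tensorMod M (CohB1.tensorMod L L') ≅ CohB1.tensorMod M (Coh.structureModule Y) :=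
    PicGrp.tensorModIso (Iso.refl M) e₂
  exact h1.of_iso ((SecTwist.unitorR M).symm ≪≫ e₃.symm ≪≫ e₁.symm)

include q in
theorem eventual_module {L : Y.Modules} (hL : CohB1.IsAmple L) {M : Y.Modules} (hM : Coh.IsCoh M) :
    ∃ n₀ : ℕ, ∀ n, n₀ ≤ n → ∀ b i : ℤ,
      (i ≠ b → Subsingleton (DCoh.inD Y (Coh.structureModule Y) ⟶
        ((DerivedCategory.singleFunctor Y.Modules b).obj (CohB1.tensorMod M (CohB1.tensorPow L n)))⟦i⟧)) ∧
      (i = b → (Subsingleton (DCoh.inD Y (Coh.structureModule Y) ⟶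
        ((DerivedCategory.singleFunctor Y.Modules b).obj (CohB1.tensorMod M (CohB1.tensorPow L n)))⟦i⟧) ↔
          IsZero M)) := by
  haveI : Y.IsSeparated := ⟨by rw [← terminal.comp_from q]; infer_instance⟩
  haveI : CompactSpace Y := hL.2.1
  obtain ⟨n₁, h₁⟩ := H10Coh.Tw.exists_vanishing_ample q hL M hM
  obtain ⟨n₂, h₂⟩ := H11Ample.eventually_globallyGenerated hL hM
  refine ⟨max n₁ n₂, fun n hn b i => ⟨fun hne => subsingleton_hom_single _ b i fun p hp => ?_, ?_⟩⟩
  · haveI := h₁ n (le_of_max_le_left hn) p (by omega)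
    exact (H10Coh.HHEquiv _ p).toEquiv.subsingleton
  · rintro rfl
    refine ⟨fun h => isZero_of_tensor (H11Ample.isInvertible_tensorPow hL.1 n)
      (isZero_of_gg (h₂ n (le_of_max_le_right hn))
        ((subsingleton_hh0_iff _).1 (subsingleton_hh0_of_hom _ i h))), fun h => ?_⟩
    have hz := (shiftFunctor (DCoh.D Y) i).map_isZero
      ((DerivedCategory.singleFunctor Y.Modules i).map_isZero ((tw (CohB1.tensorPow L n)).map_isZero h))
    exact ⟨fun f g => hz.eq_of_tgt f g⟩

include q in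
theorem eventual {L : Y.Modules} (hL : CohB1.IsAmple L) :
    ∀ (m : ℕ) (a b : ℤ), b - a + 1 ≤ m → ∀ (C : DCoh.D Y), C.IsGE a → C.IsLE b → DCoh.IsCohD C →
      ∃ n₀ : ℕ, ∀ n, n₀ ≤ n → ∀ [PreservesFiniteLimits (tw (CohB1.tensorPow L n))]
        [PreservesFiniteColimits (tw (CohB1.tensorPow L n))] (i : ℤ),
          (Subsingleton (DCoh.inD Y (Coh.structureModule Y) ⟶
            ((tw (CohB1.tensorPow L n)).mapDerivedCategory.obj C)⟦i⟧) ↔ IsZero (DCoh.HD C i)) := by
  haveI : IsLocallyNoetherian Y := LocallyOfFiniteType.isLocallyNoetherian q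
  intro m
  induction m with
  | zero =>
    intro a b hm C _ _ _
    refine ⟨0, fun n _ _ _ i => ?_⟩
    have hz : IsZero C := t.isZero C b a (by omega)
    have hz' := (shiftFunctor (DCoh.D Y) i).map_isZero ((tw (CohB1.tensorPow L n)).mapDerivedCategory.map_isZero hz)
    exact iff_of_true ⟨fun f g => hz'.eq_of_tgt f g⟩ (Functor.map_isZero _ hz)
  | succ m ih =>
    intro a b hm C _ _ hC
    haveI : DerivedCategory.IsGE ((t.truncGE b).obj C) b := inferInstanceAs (t.IsGE _ b)
    haveI : DerivedCategory.IsLE ((t.truncGE b).obj C) b := DTrunc.isLE_truncGE C b b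
    obtain ⟨M, ⟨e⟩⟩ := ((t.truncGE b).obj C).exists_iso_singleFunctor_obj_of_isGE_of_isLE b
    haveI := DTrunc.isIso_homology_truncGEπ C b b le_rfl
    let eM : DCoh.HD C b ≅ M :=
      asIso ((DerivedCategory.homologyFunctor _ b).map ((t.truncGEπ b).app C)) ≪≫
        (DerivedCategory.homologyFunctor _ b).mapIso e ≪≫ KFlat.Stalk.hdSingle M b
    haveI : DerivedCategory.IsLE ((t.truncLT b).obj C) (b - 1) :=
      inferInstanceAs (t.IsLE ((t.truncLT b).obj C) (b - 1))
    have hT : DCoh.IsCohD ((t.truncLT b).obj C) := fun i => by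
      rcases lt_or_ge i b with hi | hi
      · haveI := DTrunc.isIso_homology_truncLTι C b i hi
        exact H10Coh.isCoh_of_iso
          (asIso ((DerivedCategory.homologyFunctor _ i).map ((t.truncLTι b).app C))).symm (hC i)
      · exact Dual.isCoh_isZero (DerivedCategory.isZero_of_isLE ((t.truncLT b).obj C) (b - 1) i (by omega))
    obtain ⟨n₁, h₁⟩ := ih a (b - 1) (by omega) _ (DTrunc.isGE_truncLT C b a) inferInstance hT
    obtain ⟨n₂, h₂⟩ := eventual_module q hL (H10Coh.isCoh_of_iso eM (hC b))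
    refine ⟨max n₁ n₂, fun n hn _ _ i => ?_⟩
    let F := tw (CohB1.tensorPow L n)
    let es : F.mapDerivedCategory.obj ((t.truncGE b).obj C) ≅
        (DerivedCategory.singleFunctor Y.Modules b).obj (F.obj M) :=
      F.mapDerivedCategory.mapIso e ≪≫ (F.mapDerivedCategorySingleFunctor b).app M
    have hdist := F.mapDerivedCategory.map_distinguished _ (t.triangleLTGE_distinguished b C)
    have hTi : ∀ j, b ≤ j → Subsingleton (DCoh.inD Y (Coh.structureModule Y) ⟶
        (F.mapDerivedCategory.obj ((t.truncLT b).obj C))⟦j⟧) := fun j hj =>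
      (h₁ n (le_of_max_le_left hn) j).2
        (DerivedCategory.isZero_of_isLE ((t.truncLT b).obj C) (b - 1) j (by omega))
    have hSi : ∀ j, j ≠ b → Subsingleton (DCoh.inD Y (Coh.structureModule Y) ⟶
        (F.mapDerivedCategory.obj ((t.truncGE b).obj C))⟦j⟧) := fun j hj =>
      ss_of_iso _ ((shiftFunctor _ j).mapIso es.symm) ((h₂ n (le_of_max_le_right hn) b j).1 hj)
    rcases lt_trichotomy i b with hi | rfl | hi
    · haveI := DTrunc.isIso_homology_truncLTι C b i hi
      refine Iff.trans ?_ (asIso ((DerivedCategory.homologyFunctor _ i).map ((t.truncLTι b).app C))).isZero_iff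
      exact Iff.trans ⟨fun h => ss₁' _ _ hdist i h (hSi (i - 1) (by omega)),
        fun h => ss₂' _ _ hdist i h (hSi i (by omega))⟩ (h₁ n (le_of_max_le_left hn) i)
    · rw [eM.isZero_iff]
      refine Iff.trans ?_ ((h₂ n (le_of_max_le_right hn) i i).2 rfl)
      exact Iff.trans ⟨fun h => ss₃' _ _ hdist i h (hTi (i + 1) (by omega)),
        fun h => ss₂' _ _ hdist i (hTi i le_rfl) h⟩
        ⟨fun h => ss_of_iso _ ((shiftFunctor _ i).mapIso es) h,
          fun h => ss_of_iso _ ((shiftFunctor _ i).mapIso es.symm) h⟩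
    · exact iff_of_true (ss₂' _ _ hdist i (hTi i hi.le) (hSi i (by omega)))
        (DerivedCategory.isZero_of_isLE C b i hi)

end Groth.Agent.H16Derived.FMKWit
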