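import Groth.Agent.H4Depth.DepthLemmas
import Groth.Agent.H4Depth.DepthHom
import Groth.Agent.S14424
import Groth.Agent.H8Props.StalkLocal
import Mathlib.RingTheory.LocalRing.Module

/-!
# Exactness of complexes of finite free modules over Cohen–Macaulay local rings
-/

set_option autoImplicit false
set_option linter.style.haveILetI false

universe u

open TensorProduct LocCoh

namespace Groth.Agent.H16Derived.FMKWit

variable {R : Type u} [CommRing R] [IsLocalRing R] [IsNoetherianRing R]

theorem free_coker_of_fibre_exact {M N P : Type u} [AddCommGroup M] [Module R M] [Module.Finite R M]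
    [AddCommGroup N] [Module R N] [Module.Finite R N]
    [AddCommGroup P] [Module R P] [Module.Finite R P] [Module.Free R P]
    {k : Type u} [Field k] [Algebra R k] (hk : Function.Surjective (algebraMap R k))
    (e : M →ₗ[R] N) (d : N →ₗ[R] P) (hde : d ∘ₗ e = 0)
    (h : Function.Exact (e.baseChange k) (d.baseChange k)) :
    Module.Free R (P ⧸ LinearMap.range d) := by
  let ι : (N ⧸ LinearMap.range e) →ₗ[R] P :=
    (LinearMap.range e).liftQ d (LinearMap.range_le_ker_iff.2 hde)
  have hι : LinearMap.range ι = LinearMap.range d := Submodule.range_liftQ _ _ _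
  have hπ : Function.Surjective ((LinearMap.range e).mkQ) := Submodule.mkQ_surjective _
  have hinj : Function.Injective (ι.baseChange k) := by
    rw [injective_iff_map_eq_zero]
    intro x hx
    obtain ⟨z, rfl⟩ := LinearMap.lTensor_surjective k hπ x
    have h0 : d.baseChange k z = 0 := by
      have hc := DFunLike.congr_fun (LinearMap.baseChange_comp (A := k) (LinearMap.range e).mkQ ι) z
      exact hc.trans hx
    obtain ⟨w, rfl⟩ := (h z).1 h0
    show (LinearMap.range e).mkQ.baseChange k (e.baseChange k w) = 0
    rw [← LinearMap.comp_apply, ← LinearMap.baseChange_comp,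
      show (LinearMap.range e).mkQ ∘ₗ e = 0 from LinearMap.range_mkQ_comp e, LinearMap.baseChange_zero,
      LinearMap.zero_apply]
  have hres : Function.Injective (ι.lTensor (IsLocalRing.ResidueField R)) := by
    have hker : RingHom.ker (algebraMap R k) = IsLocalRing.maximalIdeal R :=
      IsLocalRing.eq_maximalIdeal (RingHom.ker_isMaximal_of_surjective _ hk)
    let φ : IsLocalRing.ResidueField R ≃ₗ[R] k :=
      ((Ideal.quotientEquivAlgOfEq R hker.symm).trans
        (Ideal.quotientKerAlgEquivOfSurjective (f := Algebra.ofId R k) hk)).toLinearEquiv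
    have hc : (ι.lTensor k) ∘ₗ (φ.toLinearMap.rTensor _) =
        (φ.toLinearMap.rTensor P) ∘ₗ (ι.lTensor (IsLocalRing.ResidueField R)) :=
      TensorProduct.ext' fun a b => rfl
    refine Function.Injective.of_comp (f := φ.toLinearMap.rTensor P) ?_
    rw [← LinearMap.coe_comp, ← hc, LinearMap.coe_comp]
    exact (show Function.Injective (ι.lTensor k) from hinj).comp (LinearEquiv.rTensor _ φ).injective
  exact Module.free_of_lTensor_residueField_injective ι (LinearMap.range d).mkQ (Submodule.mkQ_surjective _)
    (LinearMap.exact_iff.2 ((Submodule.ker_mkQ _).trans hι.symm)) hres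

theorem idealDepth_le_of_free (I : Ideal R) (M : Type u) [AddCommGroup M] [Module R M] [Module.Finite R M]
    [Module.Free R M] : idealDepth I R ≤ idealDepth I M := by
  refine le_of_le_of_eq (H4Depth.idealDepth_le_idealDepth_pi I (Module.finrank R M)) ?_
  exact H4Depth.idealDepth_congr I (Module.finBasis R M).equivFun.symm

theorem isCohenMacaulayRing_of_local (R : Type u) [CommRing R] [h : IsCohenMacaulayLocalRing R] :
    IsCohenMacaulayRing R :=
  { isCohenMacaulayLocalRing_localization := fun p _ => H8Props.StalkLocal.isCohenMacaulayLocalRing_localization R p }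

theorem depth_quotient_range (C : ℕ → Type u) [∀ n, AddCommGroup (C n)] [∀ n, Module R (C n)]
    [∀ n, Module.Finite R (C n)] [∀ n, Module.Free R (C n)] (d : ∀ n, C n →ₗ[R] C (n + 1))
    [Module.Free R (C 1 ⧸ LinearMap.range (d 0))] (I : Ideal R) (j : ℕ)
    (hI : ((j + 1 : ℕ) : ℕ∞) ≤ idealDepth I R) :
    ∀ s, s ≤ j → (∀ t < s, Function.Exact (d t) (d (t + 1))) →
      ((j + 1 - s : ℕ) : ℕ∞) ≤ idealDepth I (C (s + 1) ⧸ LinearMap.range (d s)) := by
  intro s
  induction s with
  | zero => exact fun _ _ => hI.trans (idealDepth_le_of_free I _)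
  | succ s ih =>
    intro hs hex
    let f : (C (s + 1) ⧸ LinearMap.range (d s)) →ₗ[R] C (s + 1 + 1) :=
      (LinearMap.range (d s)).liftQ (d (s + 1))
        ((LinearMap.exact_iff.1 (hex s s.lt_succ_self)).ge)
    have hf : Function.Injective f := by
      rw [← LinearMap.ker_eq_bot, Submodule.ker_liftQ, LinearMap.exact_iff.1 (hex s s.lt_succ_self),
        eq_bot_iff, Submodule.map_le_iff_le_comap, Submodule.comap_bot, Submodule.ker_mkQ]
    have hfg : Function.Exact f (LinearMap.range (d (s + 1))).mkQ :=
      LinearMap.exact_iff.2 ((Submodule.ker_mkQ _).trans (Submodule.range_liftQ _ _ _).symm)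
    refine le_trans (le_min ?_ ?_)
      (H4Depth.min_le_idealDepth_right I hf (Submodule.mkQ_surjective _) hfg)
    · refine le_trans ?_ (hI.trans (idealDepth_le_of_free I _))
      exact Nat.cast_le.2 (Nat.sub_le _ _)
    · refine (H4Depth.natCast_le_sub_one_iff).2 (Or.inr ?_)
      refine le_trans (Nat.cast_le.2 ?_) (ih (by omega) fun t ht => hex t (by omega))
      omega

omit [IsLocalRing R] [IsNoetherianRing R] in
/-- A complex of finite free modules over a Cohen–Macaulay local ring whose fibre is exact in degree `0`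
and whose homology in degree `n + 1` vanishes at primes of height `≤ n` is exact in positive degrees. -/
theorem exact_of_fibre_exact [IsCohenMacaulayLocalRing R] (C : ℕ → Type u) [∀ n, AddCommGroup (C n)]
    [∀ n, Module R (C n)] [∀ n, Module.Finite R (C n)] [∀ n, Module.Free R (C n)]
    (d : ∀ n, C n →ₗ[R] C (n + 1)) (hd : ∀ n, d (n + 1) ∘ₗ d n = 0)
    {M : Type u} [AddCommGroup M] [Module R M] [Module.Finite R M] (e : M →ₗ[R] C 0) (he : d 0 ∘ₗ e = 0)
    {k : Type u} [Field k] [Algebra R k] (hk : Function.Surjective (algebraMap R k))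
    (h : Function.Exact (e.baseChange k) ((d 0).baseChange k))
    (hsupp : ∀ (n : ℕ) (p : Ideal R) [p.IsPrime], p.height < ((n + 1 : ℕ) : ℕ∞) →
      ∀ x ∈ LinearMap.ker (d (n + 1)), ∃ a, a ∉ p ∧ a • x ∈ LinearMap.range (d n)) :
    ∀ n, Function.Exact (d n) (d (n + 1)) := by
  haveI := free_coker_of_fibre_exact hk e (d 0) he h
  haveI := isCohenMacaulayRing_of_local R
  intro n
  induction n using Nat.strong_induction_on with
  | _ j ih =>
    rw [LinearMap.exact_iff]
    refine le_antisymm ?_ (LinearMap.range_le_ker_iff.2 (hd j))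
    by_contra hne
    let I : Ideal R := (LinearMap.range (d j)).colon (LinearMap.ker (d (j + 1)) : Set (C (j + 1)))
    have hI : I ≠ ⊤ := fun htop => hne fun x hx => by
      have h1 : (1 : R) ∈ I := by rw [htop]; trivial
      simpa using Submodule.mem_colon.1 h1 x hx
    have hdep : ((j + 1 : ℕ) : ℕ∞) ≤ idealDepth I R := by
      rw [(S14424.result R).1 inferInstance I hI, Ideal.height_eq_inf_minimalPrimes]
      refine le_iInf₂ fun p hp => ?_
      by_contra hlt
      haveI : p.IsPrime := hp.1.1
      obtain ⟨G, hG⟩ := IsNoetherian.noetherian (LinearMap.ker (d (j + 1)))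
      choose a ha hax using fun x : G => hsupp j p (not_le.1 hlt) x.1 (hG ▸ Submodule.subset_span x.2)
      classical
      have hmem : ∏ x : G, a x ∈ I := by
        refine Submodule.mem_colon.2 fun y hy => ?_
        have hy' : y ∈ Submodule.span R (G : Set (C (j + 1))) := hG.symm ▸ hy
        refine Submodule.span_induction (fun x hx => ?_) (by simp) (fun x z _ _ h1 h2 => ?_)
          (fun r x _ h1 => ?_) hy'
        · rw [← Finset.prod_erase_mul Finset.univ a (Finset.mem_univ ⟨x, hx⟩), mul_smul]
          exact Submodule.smul_mem _ _ (hax ⟨x, hx⟩)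
        · rw [smul_add]; exact Submodule.add_mem _ h1 h2
        · rw [smul_comm]; exact Submodule.smul_mem _ _ h1
      obtain ⟨x, -, hx⟩ := (Ideal.IsPrime.prod_mem_iff (s := Finset.univ)).1 (hp.1.2 hmem)
      exact ha x hx
    have hQ := depth_quotient_range C d I j hdep j le_rfl ih
    rw [show j + 1 - j = 1 by omega] at hQ
    refine hne fun x hx => (Submodule.Quotient.mk_eq_zero _).1 ?_
    by_cases hIQ : I • (⊤ : Submodule R (C (j + 1) ⧸ LinearMap.range (d j))) = ⊤
    · have h0 := Submodule.eq_bot_of_le_smul_of_le_jacobson_bot I (⊤ : Submodule R (C (j + 1) ⧸ LinearMap.range (d j)))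
        Module.Finite.fg_top hIQ.ge ((IsLocalRing.le_maximalIdeal hI).trans (IsLocalRing.maximalIdeal_le_jacobson _))
      exact (Submodule.mem_bot R).1 (h0 ▸ Submodule.mem_top)
    · obtain ⟨r, hr, hreg⟩ := (H4Depth.one_le_idealDepth_iff hIQ).1 (by simpa using hQ)
      refine hreg ?_
      show r • Submodule.Quotient.mk x = r • (0 : C (j + 1) ⧸ LinearMap.range (d j))
      rw [smul_zero, ← Submodule.Quotient.mk_smul]
      exact (Submodule.Quotient.mk_eq_zero _).2 (Submodule.mem_colon.1 hr x hx)

end Groth.Agent.H16Derived.FMKWit
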