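import Groth.Agent.H16Derived.FMKWit.Fibre
import Groth.Agent.H16Derived.FMKWit.Main
import Groth.Agent.H16Derived.BaseChange.Main
import Groth.Agent.H16Derived.Dual.PerfQCoh

/-!
# Supports of `R^iΦ` and cohomological support loci
-/

set_option autoImplicit false
set_option linter.style.haveILetI false
set_option backward.isDefEq.respectTransparency false

universe u

open CategoryTheory CategoryTheory.Limits AlgebraicGeometry

attribute [local instance] HasDerivedCategory.standard

namespace Groth.Agent.H16Derived.FMKWit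

open Groth.Agent.H16Derived.KFlat Groth.Agent.H16Derived.KFlat.Stalk
open Groth.Agent.H16Derived.BaseChange

variable {Z Y : Scheme.{u}} (f : Z ⟶ Y) [IsProper f] [Flat f] [LocallyOfFinitePresentation f] [DCoh.HasRpush f]
  {E : DCoh.D Z} (hE : DCoh.IsPerfect E) (y : Y)
  [DCoh.HasLpull (pullback.fst f (Y.fromSpecResidueField y))]
  [DCoh.HasRΓ (pullback f (Y.fromSpecResidueField y))]

include hE in
/-- Hypercohomology of a fibre is computed by the derived fibre of the direct image. -/
theorem nonempty_RΓ_fibre_iso [DCoh.HasLpull (Y.fromSpecResidueField y)]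
    [DCoh.HasRΓ (Spec (Y.residueField y))] :
    Nonempty ((DCoh.RΓ (pullback f (Y.fromSpecResidueField y))).obj
        ((DCoh.Lpull (pullback.fst f (Y.fromSpecResidueField y))).obj E) ≅
      (DCoh.RΓ (Spec (Y.residueField y))).obj ((DCoh.Lpull (Y.fromSpecResidueField y)).obj
        ((DCoh.Rpush f).obj E))) := by
  let g := Y.fromSpecResidueField y
  haveI := hasLpull f
  haveI := hasLpull (pullback.snd f g)
  haveI := QCohD.hasRpush (pullback.snd f g)
  haveI := QCohD.hasRpush g
  haveI := QCohD.hasRpush (pullback.fst f g)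
  obtain ⟨χ⟩ := nonempty_sq (pullback.condition (f := f) (g := g)) (isLp_self f) (isLp_self (pullback.snd f g))
    (isLp_self g) (isLp_self (pullback.fst f g))
  haveI := bc_main (IsPullback.of_hasPullback f g) (ti_of_flat f g) _ _ _ _ _ _ (lpullRpushAdj f)
    (lpullRpushAdj (pullback.snd f g)) (isLp_self f) (isLp_self (pullback.snd f g))
    (isLp_self g) (isLp_self (pullback.fst f g)) χ E (Dual.isQCohD_of_isPerfect hE)
  obtain ⟨r⟩ := GammaAcyclic.nonempty_rpush_RΓ_iso (pullback.snd f g)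
  exact ⟨(r.app _).symm ≪≫ (DCoh.RΓ (Spec (Y.residueField y))).mapIso
    (asIso (bcApp (lpullRpushAdj f) (lpullRpushAdj (pullback.snd f g)) χ.hom E)).symm⟩

include hE in
theorem mem_locus_of_mem_support (i : ℤ) (hy : y ∈ CohB1.support (DCoh.HD ((DCoh.Rpush f).obj E) i)) :
    ¬ IsZero ((DerivedCategory.homologyFunctor AddCommGrpCat.{u} i).obj
      ((DCoh.RΓ (pullback f (Y.fromSpecResidueField y))).obj
        ((DCoh.Lpull (pullback.fst f (Y.fromSpecResidueField y))).obj E))) := by
  intro h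
  haveI := hasLpull (Y.fromSpecResidueField y)
  haveI := GammaAcyclic.hasRΓ (Spec (Y.residueField y))
  obtain ⟨e⟩ := nonempty_RΓ_fibre_iso f hE y
  exact H02CA.FibreVanish.notMem_support_of_lpull _ (BaseChange.isPerfect_rpush f hE) y i
    (H02CA.FibreVanish.isZero_HD_of_RΓ _ i (h.of_iso ((DerivedCategory.homologyFunctor _ i).mapIso e.symm))) hy

include hE in
theorem exists_mem_support_of_mem_locus (i : ℤ)
    (hy : ¬ IsZero ((DerivedCategory.homologyFunctor AddCommGrpCat.{u} i).obj
      ((DCoh.RΓ (pullback f (Y.fromSpecResidueField y))).obj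
        ((DCoh.Lpull (pullback.fst f (Y.fromSpecResidueField y))).obj E)))) :
    ∃ j, i ≤ j ∧ y ∈ CohB1.support (DCoh.HD ((DCoh.Rpush f).obj E) j) := by
  by_contra hne
  push Not at hne
  haveI := hasLpull (Y.fromSpecResidueField y)
  haveI := GammaAcyclic.hasRΓ (Spec (Y.residueField y))
  obtain ⟨e⟩ := nonempty_RΓ_fibre_iso f hE y
  exact hy ((isZero_RΓ_of_HD _ i (isZero_lpull_of_support _ (BaseChange.isPerfect_rpush f hE) y i hne)).of_iso
    ((DerivedCategory.homologyFunctor _ i).mapIso e))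

theorem codim_iff {k : Type u} [Field k] {X Y : Scheme.{u}} (a : X ⟶ Spec (CommRingCat.of k))
    (b : Y ⟶ Spec (CommRingCat.of k)) [IsProper a]
    (P : CochainComplex (pullback a b).Modules ℤ) (hP : DCoh.IsPerfect (DCoh.toD (pullback a b) P))
    [DCoh.HasLpull (pullback.fst a b)] [DCoh.HasLTensorCx P] [DCoh.HasRpush (pullback.snd a b)]
    [∀ y : ↥Y, DCoh.HasLpull (pullback.fst (pullback.snd a b) (Y.fromSpecResidueField y))]
    [∀ y : ↥Y, DCoh.HasRΓ (pullback (pullback.snd a b) (Y.fromSpecResidueField y))]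
    (F : CochainComplex X.Modules ℤ) (hF : DCoh.IsPerfect (DCoh.toD X F)) (k' : ℕ) :
    (∀ (i : ℕ) (y : ↥Y), y ∈ CohB1.support (DCoh.HD ((FMK.phi a b P).obj (DCoh.toD X F)) (i : ℤ)) →
      ((i - k' : ℕ) : WithBot ℕ∞) ≤ ringKrullDim ↑(Y.presheaf.stalk y)) ↔
    (∀ (i : ℕ) (y : ↥Y), ¬ IsZero ((DerivedCategory.homologyFunctor AddCommGrpCat.{u} (i : ℤ)).obj
        ((DCoh.RΓ (pullback (pullback.snd a b) (Y.fromSpecResidueField y))).obj
          ((DCoh.Lpull (pullback.fst (pullback.snd a b) (Y.fromSpecResidueField y))).obj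
          ((DCoh.LTensorCx P).obj ((DCoh.Lpull (pullback.fst a b)).obj (DCoh.toD X F)))))) →
      ((i - k' : ℕ) : WithBot ℕ∞) ≤ ringKrullDim ↑(Y.presheaf.stalk y)) := by
  haveI : Flat a := inferInstance
  haveI : LocallyOfFinitePresentation a := inferInstance
  obtain ⟨P', hP', ⟨e⟩⟩ := exists_kflat_rep (DCoh.toD (pullback a b) P)
  haveI := hasLTensorCx P'
  have hE : DCoh.IsPerfect ((DCoh.LTensorCx P).obj ((DCoh.Lpull (pullback.fst a b)).obj (DCoh.toD X F))) :=
    isPerfect_of_iso ((Dual.ltensorCxIsoT P').symm.app _ ≪≫ ((Dual.T _).obj _).mapIso e ≪≫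
      (Dual.ltensorCxIsoT P).app _)
      (isPerfect_ltensorCx P' ((isKFlat_iff' P').2 hP') (isPerfect_of_iso e.symm hP)
        (isPerfect_lpull (pullback.fst a b) hF))
  constructor
  · intro h i y hy
    obtain ⟨j, hj, hjy⟩ := exists_mem_support_of_mem_locus (pullback.snd a b) hE y i hy
    obtain ⟨q, rfl⟩ := Int.eq_ofNat_of_zero_le (show 0 ≤ j by omega)
    refine le_trans ?_ (h q y hjy)
    exact_mod_cast (by omega : i - k' ≤ q - k')
  · exact fun h i y hy => h i y (mem_locus_of_mem_support (pullback.snd a b) hE y i hy)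

end Groth.Agent.H16Derived.FMKWit
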