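import Groth.Agent.H16Derived.FMKWit.CMExact
import Groth.Agent.H16Derived.FMKWit.Locus
import Groth.Agent.H4Goren.Basic
import Groth.Agent.H17.AssPts
import Groth.Agent.H8Props.FinLocFree.Sheaf

/-!
# Fibre cohomology vanishing propagates upwards
-/

set_option autoImplicit false
set_option linter.style.haveILetI false
set_option backward.isDefEq.respectTransparency false

universe u

open CategoryTheory CategoryTheory.Limits AlgebraicGeometry TensorProduct

attribute [local instance] HasDerivedCategory.standard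

namespace Groth.Agent.H16Derived.FMKWit

open H16Derived.KFlat H16Derived.KFlat.Stalk H02CA.FibreVanish H17.AssPts

variable {X V Z : Scheme.{u}}

theorem exists_smul_mem_range {A B C : V.Modules} (hA : Coh.IsQCoh A) (hB : Coh.IsQCoh B) (hC : Coh.IsQCoh C)
    (g : A ⟶ B) (f : B ⟶ C) (y : V) (p : Ideal (V.presheaf.stalk y)) [p.IsPrime] :
    ∃ η : V, ringKrullDim (V.presheaf.stalk η) = p.height ∧
      (Function.Exact (H06Mod.stalkLin g η) (H06Mod.stalkLin f η) →
        ∀ x ∈ LinearMap.ker (H06Mod.stalkLin f y), ∃ a, a ∉ p ∧ a • x ∈ LinearMap.range (H06Mod.stalkLin g y)) := by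
  obtain ⟨_, ⟨U, hU, rfl⟩, hyU, -⟩ :=
    V.isBasis_affineOpens.exists_subset_of_mem_open (Set.mem_univ y) isOpen_univ
  letI := TopCat.Presheaf.algebra_section_stalk V.presheaf (⟨y, hyU⟩ : U)
  haveI : IsLocalization.AtPrime (V.presheaf.stalk y) (hU.primeIdealOf ⟨y, hyU⟩).asIdeal :=
    hU.isLocalization_stalk ⟨y, hyU⟩
  let q : PrimeSpectrum Γ(V, U) := ⟨p.comap (algebraMap Γ(V, U) (V.presheaf.stalk y)), inferInstance⟩
  let η : V := hU.fromSpec.base q
  have hηU : η ∈ U := by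
    rw [← SetLike.mem_coe, ← hU.range_fromSpec]
    exact ⟨q, rfl⟩
  have hq : hU.primeIdealOf ⟨η, hηU⟩ = q := by
    haveI := hU.isOpenImmersion_fromSpec
    exact hU.fromSpec.isOpenEmbedding.injective (hU.fromSpec_primeIdealOf ⟨η, hηU⟩)
  have hdim : ringKrullDim (V.presheaf.stalk η) = p.height := by
    letI := TopCat.Presheaf.algebra_section_stalk V.presheaf (⟨η, hηU⟩ : U)
    haveI := hU.isLocalization_stalk ⟨η, hηU⟩
    rw [IsLocalization.AtPrime.ringKrullDim_eq_height (hU.primeIdealOf ⟨η, hηU⟩).asIdeal (V.presheaf.stalk η),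
      hq]
    exact congrArg _ (IsLocalization.height_comap (hU.primeIdealOf ⟨y, hyU⟩).asIdeal.primeCompl p)
  have hmem : ∀ t : Γ(V, U), η ∈ V.basicOpen t → V.presheaf.germ U y hyU t ∉ p := fun t ht hp => by
    have h1 : t ∈ (hU.primeIdealOf ⟨η, hηU⟩).asIdeal := by rw [hq]; exact hp
    exact (mem_primeIdealOf hU hηU t).1 h1 ht
  have hgen : ∀ t : Γ(V, U), y ∈ V.basicOpen t → η ∈ V.basicOpen t := fun t ht => by
    by_contra hn
    have h1 := (mem_primeIdealOf hU hηU t).2 hn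
    rw [hq] at h1
    exact Ideal.IsPrime.ne_top' (Ideal.eq_top_of_isUnit_mem p h1 ((isUnit_germ_iff hyU t).2 ht))
  refine ⟨η, hdim, fun hex x hx => ?_⟩
  obtain ⟨t, s₀, ht, hts⟩ := exists_smul_germ_eq B hB hU hyU x
  obtain ⟨u, hu, hus⟩ := exists_smul_eq_zero_of_germ C hC hU hyU (s := f.app U s₀) (by
    rw [← H06Mod.stalkLin_germ f y U hyU s₀, ← hts, map_smul, LinearMap.mem_ker.1 hx, smul_zero])
  obtain ⟨w, hw⟩ := (hex (B.presheaf.germ U η hηU (u • s₀))).1 (by
    rw [H06Mod.stalkLin_germ, Scheme.Modules.Hom.app_smul, hus, map_zero])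
  obtain ⟨t', w₀, ht', htw⟩ := exists_smul_germ_eq A hA hU hηU w
  obtain ⟨v, hv, hvz⟩ := exists_smul_eq_zero_of_germ B hB hU hηU (s := t' • u • s₀ - g.app U w₀) (by
    rw [map_sub, germ_smul' B hηU t', ← hw, ← map_smul, htw, H06Mod.stalkLin_germ, sub_self])
  refine ⟨V.presheaf.germ U y hyU (v * t' * u * t), ?_,
    A.presheaf.germ U y hyU (v • w₀), ?_⟩
  · have hη : η ∈ V.basicOpen (v * t' * u * t) := by
      simp only [Scheme.basicOpen_mul]
      exact ⟨⟨⟨hv, ht'⟩, hgen u hu⟩, hgen t ht⟩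
    exact hmem _ hη
  · rw [smul_sub, sub_eq_zero] at hvz
    rw [H06Mod.stalkLin_germ, Scheme.Modules.Hom.app_smul, ← hvz, smul_smul, smul_smul,
      map_mul _ (v * t' * u) t]
    refine Eq.trans ?_ (mul_smul _ _ x).symm
    rw [hts, ← germ_smul' B hyU]

theorem notMem_support_homology_above (f : Z ⟶ V) (p : Z) (hp : IsField (Z.presheaf.stalk p))
    (hs : Function.Surjective (f.stalkMap p).hom)
    (hcm : LocCoh.IsCohenMacaulayLocalRing (V.presheaf.stalk (f.base p)))
    (S : CochainComplex V.Modules ℤ) (hS : DCoh.IsStrictlyPerfect S) (i : ℤ)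
    (hsupp : ∀ (n : ℕ) (η : V), η ∈ CohB1.support (S.homology (i + (n + 1 : ℕ))) →
      ((n + 1 : ℕ) : WithBot ℕ∞) ≤ ringKrullDim (V.presheaf.stalk η))
    (h : IsZero ((DerSch.stalkFunctor Z p).obj
        ((((Scheme.Modules.pullback f).mapHomologicalComplex (ComplexShape.up ℤ)).obj S).homology i))) :
    ∀ q, i < q → f.base p ∉ CohB1.support (S.homology q) := by
  letI : Field (Z.presheaf.stalk p) := hp.toField
  letI := H06Mod.stalkAlgebra f p
  let R := V.presheaf.stalk (f.base p)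
  let k := Z.presheaf.stalk p
  let y := f.base p
  haveI := hcm
  let M : ℕ → Type u := fun n => (S.X (i + (n : ℕ))).presheaf.stalk y
  haveI : ∀ j, Module.Finite R ((S.X j).presheaf.stalk y) := fun j =>
    H06Mod.finite_stalk _ (H29Fitt.isFT_of_isFP _ (H8Props.FinLocFree.isFP_of_isFinLocFree _ (hS.2 j))) y
  haveI : ∀ j, Module.Free R ((S.X j).presheaf.stalk y) := fun j =>
    H8Props.FinLocFree.free_stalk _ (hS.2 j) y
  let e : (S.X (i - 1)).presheaf.stalk y →ₗ[R] (S.X (i + (0 : ℕ))).presheaf.stalk y :=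
    H06Mod.stalkLin (S.d (i - 1) (i + (0 : ℕ))) y
  let d : ∀ n : ℕ, (S.X (i + n)).presheaf.stalk y →ₗ[R] (S.X (i + (n + 1 : ℕ))).presheaf.stalk y :=
    fun n => H06Mod.stalkLin (S.d (i + n) (i + (n + 1 : ℕ))) y
  let C' := ((DerSch.stalkFunctor V y).mapHomologicalComplex (ComplexShape.up ℤ)).obj S
  have hdd : ∀ n : ℕ, d (n + 1) ∘ₗ d n = 0 := fun n => LinearMap.ext fun t =>
    congr(($(C'.d_comp_d (i + (n : ℕ)) (i + (n + 1 : ℕ)) (i + (n + 1 + 1 : ℕ)))).hom t)
  have hde : d 0 ∘ₗ e = 0 := LinearMap.ext fun t =>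
    congr(($(C'.d_comp_d (i - 1) (i + (0 : ℕ)) (i + (0 + 1 : ℕ)))).hom t)
  let P := ((Scheme.Modules.pullback f).mapHomologicalComplex (ComplexShape.up ℤ)).obj S
  let C := ((DerSch.stalkFunctor Z p).mapHomologicalComplex (ComplexShape.up ℤ)).obj P
  have hC : C.ExactAt (i + (0 : ℕ)) := by
    rw [show i + ((0 : ℕ) : ℤ) = i by simp, HomologicalComplex.exactAt_iff_isZero_homology]
    exact h.of_iso ((P.sc i).mapHomologyIso (DerSch.stalkFunctor Z p))
  rw [HomologicalComplex.exactAt_iff' _ (i - 1) (i + (0 : ℕ)) (i + (0 + 1 : ℕ)) (by simp) (by simp),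
    ShortComplex.ShortExact.moduleCat_exact_iff_function_exact] at hC
  let eq' : ∀ j, k ⊗[R] (S.X j).presheaf.stalk y ≃ₗ[k]
      ((Scheme.Modules.pullback f).obj (S.X j)).presheaf.stalk p :=
    fun j => H06Mod.pullStalkEquiv f (S.X j) p
  have hk : Function.Exact (e.baseChange k) ((d 0).baseChange k) := by
    refine (Function.Exact.iff_of_ladder_linearEquiv (R := k) (e₁ := eq' (i - 1)) (e₂ := eq' (i + (0 : ℕ)))
      (e₃ := eq' (i + (0 + 1 : ℕ))) (f₁₂ := e.baseChange k) (f₂₃ := (d 0).baseChange k)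
      (g₁₂ := H06Mod.stalkLin ((Scheme.Modules.pullback f).map (S.d (i - 1) (i + (0 : ℕ)))) p)
      (g₂₃ := H06Mod.stalkLin ((Scheme.Modules.pullback f).map (S.d (i + (0 : ℕ)) (i + (0 + 1 : ℕ)))) p)
      ?_ ?_).1 hC
    · exact LinearMap.ext fun t => (pullStalkLin_naturality f p (S.d (i - 1) (i + (0 : ℕ))) t).symm
    · exact LinearMap.ext fun t => (pullStalkLin_naturality f p (S.d (i + (0 : ℕ)) (i + (0 + 1 : ℕ))) t).symm
  have hq : ∀ j, Coh.IsQCoh (S.X j) := fun j => H8Props.FinLocFree.isQCoh_of_isFinLocFree _ (hS.2 j)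
  have hex := exact_of_fibre_exact (R := R) M d hdd e hde (k := k) hs hk fun n P hP hn x hx => by
    obtain ⟨η, hη, hex⟩ := exists_smul_mem_range (hq (i + (n : ℕ))) (hq (i + (n + 1 : ℕ))) (hq (i + (n + 1 + 1 : ℕ)))
      (S.d (i + (n : ℕ)) (i + (n + 1 : ℕ))) (S.d (i + (n + 1 : ℕ)) (i + (n + 1 + 1 : ℕ))) y P
    refine hex ?_ x hx
    have hns : η ∉ CohB1.support (S.homology (i + (n + 1 : ℕ))) := fun hm => by
      have hle := hsupp n η hm
      rw [hη] at hle
      exact not_le.2 hn (WithBot.coe_le_coe.1 hle)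
    let Cη := ((DerSch.stalkFunctor V η).mapHomologicalComplex (ComplexShape.up ℤ)).obj S
    have hCη : Cη.ExactAt (i + (n + 1 : ℕ)) := by
      rw [HomologicalComplex.exactAt_iff_isZero_homology]
      refine IsZero.of_iso ?_ ((S.sc (i + (n + 1 : ℕ))).mapHomologyIso (DerSch.stalkFunctor V η))
      haveI : Subsingleton ((S.homology (i + (n + 1 : ℕ))).presheaf.stalk η) := not_not.1 hns
      exact @ModuleCat.isZero_of_subsingleton _ _ ((DerSch.stalkFunctor V η).obj (S.homology (i + (n + 1 : ℕ))))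
        (inferInstanceAs (Subsingleton ((S.homology (i + (n + 1 : ℕ))).presheaf.stalk η)))
    rw [HomologicalComplex.exactAt_iff' _ (i + (n : ℕ)) (i + (n + 1 : ℕ)) (i + (n + 1 + 1 : ℕ))
      (by simp; omega) (by simp; omega),
      ShortComplex.ShortExact.moduleCat_exact_iff_function_exact] at hCη
    exact hCη
  intro q hq'
  obtain ⟨n, rfl⟩ : ∃ n : ℕ, q = i + (n + 1 : ℕ) := ⟨(q - i - 1).toNat, by omega⟩
  have hC' : C'.ExactAt (i + (n + 1 : ℕ)) := by
    rw [HomologicalComplex.exactAt_iff' _ (i + (n : ℕ)) (i + (n + 1 : ℕ)) (i + (n + 1 + 1 : ℕ))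
      (by simp; omega) (by simp; omega),
      ShortComplex.ShortExact.moduleCat_exact_iff_function_exact]
    exact hex n
  rw [HomologicalComplex.exactAt_iff_isZero_homology] at hC'
  have hz : IsZero ((DerSch.stalkFunctor V y).obj (S.homology (i + (n + 1 : ℕ)))) :=
    hC'.of_iso ((S.sc (i + (n + 1 : ℕ))).mapHomologyIso (DerSch.stalkFunctor V y)).symm
  exact not_not.2 (ModuleCat.subsingleton_of_isZero hz)

/-- If the supports of the cohomology have codimension growing with the degree, vanishing of the derived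
fibre in degree `i` propagates to all higher degrees. -/
theorem notMem_support_of_lpull_above (K : DCoh.D X) (hK : DCoh.IsPerfect K) (x : X)
    (hcm : LocCoh.IsCohenMacaulayLocalRing (X.presheaf.stalk x))
    [DCoh.HasLpull (X.fromSpecResidueField x)] (i : ℤ)
    (hsupp : ∀ (n : ℕ) (η : X), η ∈ CohB1.support (DCoh.HD K (i + (n + 1 : ℕ))) →
      ((n + 1 : ℕ) : WithBot ℕ∞) ≤ ringKrullDim (X.presheaf.stalk η))
    (h : IsZero (DCoh.HD ((DCoh.Lpull (X.fromSpecResidueField x)).obj K) i)) :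
    ∀ q, i < q → x ∉ CohB1.support (DCoh.HD K q) := by
  obtain ⟨W, hxW, S, hS, ⟨α⟩⟩ := (isPerfect_iff K).1 hK x
  obtain ⟨f, hf, hfp⟩ := exists_lift_residueField W ⟨x, hxW⟩
  obtain ⟨P, hP, ⟨e⟩⟩ := exists_kflat_rep K
  haveI := hasLpull f
  let g := X.fromSpecResidueField x
  let p : Spec (X.residueField x) := default
  let β : DCoh.toD _ S ≅ DCoh.toD _ ((DCoh.restrictCx W).obj P) :=
    α ≪≫ (rd W.ι).mapIso e.symm ≪≫ (rdQ W.ι).app P
  let θ : DCoh.HD ((DCoh.Lpull g).obj K) i ≅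
      (((Scheme.Modules.pullback f).mapHomologicalComplex (ComplexShape.up ℤ)).obj S).homology i :=
    (DerivedCategory.homologyFunctor _ i).mapIso
        ((DCoh.Lpull g).mapIso e.symm ≪≫ lpullObjIso g P hP ≪≫
          DerivedCategory.Q.mapIso (pullbackFactorIso W f g hf P) ≪≫
          (lpullObjIso f _ (kflat_restrict W hP)).symm ≪≫ (DCoh.Lpull f).mapIso β.symm ≪≫
          lpullObjIso f S (kflat_of_isStrictlyPerfect hS)) ≪≫
      (DerivedCategory.homologyFunctorFactors _ i).app _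
  have hs : Function.Surjective (f.stalkMap p).hom := by
    haveI : IsPreimmersion (f ≫ W.ι) := hf ▸ inferInstance
    haveI : IsPreimmersion f := IsPreimmersion.of_comp f W.ι
    exact f.stalkMap_surjective p
  have hmem : ∀ (q : ℤ) (η : ↥W), η ∈ CohB1.support (S.homology q) ↔ η.1 ∈ CohB1.support (DCoh.HD K q) :=
    fun q η => by
      have e₁ := MVPush.support_iso (((DerivedCategory.homologyFunctorFactors _ q).app S).symm ≪≫
        (DerivedCategory.homologyFunctor _ q).mapIso α)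
      exact ⟨fun hm => (Thomason.mem_support_rd W.ι K q η).1 (e₁.le hm),
        fun hm => e₁.ge ((Thomason.mem_support_rd W.ι K q η).2 hm)⟩
  have hcm' : LocCoh.IsCohenMacaulayLocalRing (W.toScheme.presheaf.stalk (f.base p)) := by
    rw [hfp p]
    haveI : LocCoh.IsCohenMacaulayLocalRing (X.presheaf.stalk (⟨x, hxW⟩ : W).1) := hcm
    exact H8Props.CMAt.isCohenMacaulayLocalRing_of_ringEquiv (W.stalkIso ⟨x, hxW⟩).symm.commRingCatIsoToRingEquiv
  have key := notMem_support_homology_above f p (isField_stalk_residueField x p) hs hcm' S hS i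
    (fun n η hη => by
      rw [ringKrullDim_eq_of_ringEquiv (W.stalkIso η).commRingCatIsoToRingEquiv]
      exact hsupp n η.1 ((hmem _ η).1 hη))
    ((DerSch.stalkFunctor _ p).map_isZero (h.of_iso θ.symm))
  intro q hq hx
  exact key q hq (by rw [hfp p]; exact (hmem q ⟨x, hxW⟩).2 hx)

variable {Z Y : Scheme.{u}} (f : Z ⟶ Y) [IsProper f] [Flat f] [LocallyOfFinitePresentation f] [DCoh.HasRpush f]
  {E : DCoh.D Z} (hE : DCoh.IsPerfect E) (y : Y)
  [DCoh.HasLpull (pullback.fst f (Y.fromSpecResidueField y))]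
  [DCoh.HasRΓ (pullback f (Y.fromSpecResidueField y))]

include hE in
theorem isZero_fibre_succ (hcm : LocCoh.IsCohenMacaulayLocalRing (Y.presheaf.stalk y)) (i : ℤ)
    (hsupp : ∀ (n : ℕ) (η : Y), η ∈ CohB1.support (DCoh.HD ((DCoh.Rpush f).obj E) (i + (n + 1 : ℕ))) →
      ((n + 1 : ℕ) : WithBot ℕ∞) ≤ ringKrullDim (Y.presheaf.stalk η))
    (h : IsZero ((DerivedCategory.homologyFunctor AddCommGrpCat.{u} i).obj
      ((DCoh.RΓ (pullback f (Y.fromSpecResidueField y))).obj
        ((DCoh.Lpull (pullback.fst f (Y.fromSpecResidueField y))).obj E)))) :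
    IsZero ((DerivedCategory.homologyFunctor AddCommGrpCat.{u} (i + 1)).obj
      ((DCoh.RΓ (pullback f (Y.fromSpecResidueField y))).obj
        ((DCoh.Lpull (pullback.fst f (Y.fromSpecResidueField y))).obj E))) := by
  haveI := hasLpull (Y.fromSpecResidueField y)
  haveI := GammaAcyclic.hasRΓ (Spec (Y.residueField y))
  obtain ⟨e⟩ := nonempty_RΓ_fibre_iso f hE y
  have hC := BaseChange.isPerfect_rpush f hE
  have hv := notMem_support_of_lpull_above _ hC y hcm i hsupp
    (H02CA.FibreVanish.isZero_HD_of_RΓ _ i (h.of_iso ((DerivedCategory.homologyFunctor _ i).mapIso e.symm)))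
  exact (isZero_RΓ_of_HD _ (i + 1) (isZero_lpull_of_support _ hC y (i + 1) fun j hj => hv j (by omega))).of_iso
    ((DerivedCategory.homologyFunctor _ (i + 1)).mapIso e)

theorem locus_succ_subset {k : Type u} [Field k] {X Y : Scheme.{u}} (a : X ⟶ Spec (CommRingCat.of k))
    (b : Y ⟶ Spec (CommRingCat.of k)) [IsProper a]
    (hYgor : ∀ y : ↥Y, LocCoh.IsGorensteinLocalRing ↑(Y.presheaf.stalk y))
    (P : CochainComplex (pullback a b).Modules ℤ) (hP : DCoh.IsPerfect (DCoh.toD (pullback a b) P))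
    [DCoh.HasLpull (pullback.fst a b)] [DCoh.HasLTensorCx P] [DCoh.HasRpush (pullback.snd a b)]
    [∀ y : ↥Y, DCoh.HasLpull (pullback.fst (pullback.snd a b) (Y.fromSpecResidueField y))]
    [∀ y : ↥Y, DCoh.HasRΓ (pullback (pullback.snd a b) (Y.fromSpecResidueField y))]
    (F : DCoh.D X) (hF : DCoh.IsPerfect F) (k' : ℕ)
    (hGV : ∀ (i : ℕ) (y : ↥Y), y ∈ CohB1.support (DCoh.HD ((FMK.phi a b P).obj F) (i : ℤ)) →
      ((i - k' : ℕ) : WithBot ℕ∞) ≤ ringKrullDim ↑(Y.presheaf.stalk y))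
    (i : ℕ) (hi : k' ≤ i) (y : ↥Y)
    (h : IsZero ((DerivedCategory.homologyFunctor AddCommGrpCat.{u} (i : ℤ)).obj
        ((DCoh.RΓ (pullback (pullback.snd a b) (Y.fromSpecResidueField y))).obj
          ((DCoh.Lpull (pullback.fst (pullback.snd a b) (Y.fromSpecResidueField y))).obj
          ((DCoh.LTensorCx P).obj ((DCoh.Lpull (pullback.fst a b)).obj F)))))) :
    IsZero ((DerivedCategory.homologyFunctor AddCommGrpCat.{u} ((i : ℤ) + 1)).obj
        ((DCoh.RΓ (pullback (pullback.snd a b) (Y.fromSpecResidueField y))).obj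
          ((DCoh.Lpull (pullback.fst (pullback.snd a b) (Y.fromSpecResidueField y))).obj
          ((DCoh.LTensorCx P).obj ((DCoh.Lpull (pullback.fst a b)).obj F))))) := by
  haveI : Flat a := inferInstance
  haveI : LocallyOfFinitePresentation a := inferInstance
  obtain ⟨P', hP', ⟨e⟩⟩ := exists_kflat_rep (DCoh.toD (pullback a b) P)
  haveI := hasLTensorCx P'
  have hE : DCoh.IsPerfect ((DCoh.LTensorCx P).obj ((DCoh.Lpull (pullback.fst a b)).obj F)) :=
    isPerfect_of_iso ((Dual.ltensorCxIsoT P').symm.app _ ≪≫ ((Dual.T _).obj _).mapIso e ≪≫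
      (Dual.ltensorCxIsoT P).app _)
      (isPerfect_ltensorCx P' ((isKFlat_iff' P').2 hP') (isPerfect_of_iso e.symm hP)
        (isPerfect_lpull (pullback.fst a b) hF))
  haveI := hYgor y
  refine isZero_fibre_succ (pullback.snd a b) hE y (H4Goren.isCohenMacaulayLocalRing _) i (fun n η hη => ?_) h
  rw [show ((i : ℤ) + ((n + 1 : ℕ) : ℤ)) = ((i + (n + 1) : ℕ) : ℤ) by push_cast; rfl] at hη
  refine le_trans ?_ (hGV (i + (n + 1)) η hη)
  exact_mod_cast (by omega : n + 1 ≤ i + (n + 1) - k')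

end Groth.Agent.H16Derived.FMKWit
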